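import Mathlib

/-!
Finite fields and fixed points of one automorphism.
-/

set_option autoImplicit false

namespace Cfsg.Agent.H331.BF

open Module

variable {K : Type*} [Field K] [Finite K]

/-- `|K| = |Fix σ| ^ (order of σ)`. -/
theorem card_eq_fix_pow (σ : K ≃+* K) :
    Nat.card K = (Nat.card {t : K // σ t = t}) ^ orderOf σ := by
  classical
  have : Fintype K := Fintype.ofFinite K
  have hfin : Finite (K ≃+* K) := Finite.of_injective (fun f : K ≃+* K => (f : K → K)) DFunLike.coe_injective
  let G := Subgroup.zpowers σ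
  have : Finite G := inferInstance
  have : Fintype G := Fintype.ofFinite G
  let F := FixedPoints.subfield G K
  have h1 : finrank F K = Fintype.card G := FixedPoints.finrank_eq_card G K
  have h2 : Fintype.card G = orderOf σ := by
    rw [← Nat.card_eq_fintype_card, Nat.card_zpowers]
  have : Finite F := inferInstance
  have h3 : Nat.card K = Nat.card F ^ finrank F K := Module.natCard_eq_pow_finrank
  have h4 : Nat.card F = Nat.card {t : K // σ t = t} := by
    refine Nat.card_congr (Equiv.subtypeEquivRight fun t => ?_)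
    constructor
    · intro h
      exact h ⟨σ, Subgroup.mem_zpowers σ⟩
    · intro h
      rintro ⟨τ, hτ⟩
      obtain ⟨m, rfl⟩ := Subgroup.mem_zpowers_iff.mp hτ
      change (σ ^ m) t = t
      have : σ ∈ MulAction.stabilizer (K ≃+* K) t := h
      exact Subgroup.zpow_mem _ this m
  rw [h3, h1, h2, h4]

theorem card_le_fix_pow (σ : K ≃+* K) {m : ℕ} (hm : 0 < m) (h : σ ^ m = 1) :
    Nat.card K ≤ (Nat.card {t : K // σ t = t}) ^ m := by
  rw [card_eq_fix_pow σ]
  have hpos : 0 < Nat.card {t : K // σ t = t} := by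
    have : Nonempty {t : K // σ t = t} := ⟨⟨0, map_zero σ⟩⟩
    exact Nat.card_pos
  exact Nat.pow_le_pow_right hpos (Nat.le_of_dvd hm (orderOf_dvd_of_pow_eq_one h))

/-- If `|K| < |Fix τ| ^ 3` then `τ ^ 2 = 1`. -/
theorem sq_eq_one_of_card_lt (τ : K ≃+* K) (h : Nat.card K < (Nat.card {t : K // τ t = t}) ^ 3) : τ ^ 2 = 1 := by
  have hpos : 0 < Nat.card {t : K // τ t = t} := by
    have : Nonempty {t : K // τ t = t} := ⟨⟨0, map_zero τ⟩⟩
    exact Nat.card_pos
  rw [card_eq_fix_pow τ] at h
  have h3 : orderOf τ < 3 := by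
    by_contra hcon
    push Not at hcon
    exact absurd (Nat.pow_le_pow_right hpos hcon) (not_le.mpr h)
  have h0 : 0 < orderOf τ := by
    have hfin : Finite (K ≃+* K) := Finite.of_injective (fun f : K ≃+* K => (f : K → K)) DFunLike.coe_injective
    exact orderOf_pos τ
  interval_cases ho : orderOf τ
  · rw [orderOf_eq_one_iff] at ho
    rw [ho, one_pow]
  · rw [← ho, pow_orderOf_eq_one]

/-- If `Q` has degree between `1` and `d` and all values of `Q` on `S` lie in the fixed field of `τ`, then
`|S| ≤ d * |Fix τ|`. -/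
theorem card_le_of_values (τ : K ≃+* K) (S : Finset K) (Q : Polynomial K) (d : ℕ) (h1 : 0 < Q.natDegree)
    (hd : Q.natDegree ≤ d) (hQ : ∀ t ∈ S, τ (Q.eval t) = Q.eval t) :
    S.card ≤ d * Nat.card {t : K // τ t = t} := by
  classical
  have : Fintype K := Fintype.ofFinite K
  rw [Nat.card_eq_fintype_card, Fintype.card_subtype]
  refine Finset.card_le_mul_card_image_of_maps_to (f := fun t => Q.eval t) ?_ d ?_
  · intro t ht
    simp only [Finset.mem_filter, Finset.mem_univ, true_and]
    exact hQ t ht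
  · intro b _
    refine le_trans ?_ hd
    have hne : Q - Polynomial.C b ≠ 0 := by
      intro h
      rw [sub_eq_zero] at h
      rw [h] at h1
      simp at h1
    have hdeg : (Q - Polynomial.C b).natDegree = Q.natDegree := Polynomial.natDegree_sub_C
    rw [← hdeg]
    refine le_trans ?_ (Polynomial.card_roots' _)
    refine le_trans ?_ (Multiset.toFinset_card_le _)
    refine Finset.card_le_card fun t ht => ?_
    rw [Finset.mem_filter] at ht
    rw [Multiset.mem_toFinset, Polynomial.mem_roots hne, Polynomial.IsRoot.def, Polynomial.eval_sub,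
      Polynomial.eval_C, ht.2, sub_self]

/-- The combination used for groups of bounded rank. `s` bounds the fixed field of `σ`, `K'` is a large set of parameters
on which a non-constant polynomial of degree at most `d` takes values fixed by `σ ^ n`. -/
theorem card_field_le (σ : K ≃+* K) {n : ℕ} (hn : 0 < n) (K' : Finset K) (hK' : Nat.card K ≤ K'.card ^ 2)
    (Q : Polynomial K) (d : ℕ) (h1 : 0 < Q.natDegree) (hd : Q.natDegree ≤ d)
    (hQ : ∀ t ∈ K', (σ ^ n) (Q.eval t) = Q.eval t) (s : ℕ) (hs : Nat.card {t : K // σ t = t} ≤ s) :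
    Nat.card K ≤ s ^ (2 * n) + d ^ 6 := by
  have h2 := card_le_of_values (σ ^ n) K' Q d h1 hd hQ
  set f := Nat.card {t : K // (σ ^ n) t = t} with hf
  by_cases h3 : Nat.card K < f ^ 3
  · have h4 := sq_eq_one_of_card_lt (σ ^ n) h3
    rw [← pow_mul, mul_comm] at h4
    refine le_trans (card_le_fix_pow σ (by omega) h4) ?_
    exact le_trans (Nat.pow_le_pow_left hs _) (Nat.le_add_right _ _)
  · push Not at h3
    have h5 : Nat.card K ≤ d ^ 2 * f ^ 2 :=
      calc Nat.card K ≤ K'.card ^ 2 := hK'
        _ ≤ (d * f) ^ 2 := Nat.pow_le_pow_left h2 2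
        _ = d ^ 2 * f ^ 2 := by ring
    have hf0 : 0 < f := by
      have : Nonempty {t : K // (σ ^ n) t = t} := ⟨⟨0, map_zero _⟩⟩
      exact Nat.card_pos
    have h6 : f ≤ d ^ 2 := by
      have h7 : f ^ 2 * f ≤ f ^ 2 * d ^ 2 := by
        calc f ^ 2 * f = f ^ 3 := by ring
          _ ≤ Nat.card K := h3
          _ ≤ d ^ 2 * f ^ 2 := h5
          _ = f ^ 2 * d ^ 2 := by ring
      exact Nat.le_of_mul_le_mul_left h7 (by positivity)
    calc Nat.card K ≤ d ^ 2 * f ^ 2 := h5
      _ ≤ d ^ 2 * (d ^ 2) ^ 2 := Nat.mul_le_mul_left _ (Nat.pow_le_pow_left h6 2)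
      _ = d ^ 6 := by ring
      _ ≤ _ := Nat.le_add_left _ _

end Cfsg.Agent.H331.BF
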