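import Mathlib

/-!
The reveal lemma: a finite group `Γ` acting on a finite set `X`, a map `a : X → X`, and the walk
`x, g • a x, g • a (g • a x), …` for one random `g`. If the pointwise stabilizer of every short list `l` of points has
only large orbits outside a small set `bad l`, then the probability that the `n`-th point lies in a given small set is
small.
-/

set_option autoImplicit false
set_option linter.unusedSectionVars false

namespace Cfsg.Agent.H331.BF

open MulAction

variable {Γ X : Type*} [Group Γ] [MulAction Γ X]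

/-- Pointwise stabilizer of a list of points. -/
def lstab (Γ : Type*) {X : Type*} [Group Γ] [MulAction Γ X] (l : List X) : Subgroup Γ where
  carrier := {g | ∀ y ∈ l, g • y = y}
  mul_mem' := by
    intro a b ha hb y hy
    rw [mul_smul, hb y hy, ha y hy]
  one_mem' := by intro y _; exact one_smul _ _
  inv_mem' := by
    intro a ha y hy
    rw [inv_smul_eq_iff, ha y hy]

theorem mem_lstab {l : List X} {g : Γ} : g ∈ lstab Γ l ↔ ∀ y ∈ l, g • y = y := Iff.rfl

theorem mem_lstab_cons {l : List X} {z : X} {g : Γ} :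
    g ∈ lstab Γ (z :: l) ↔ g • z = z ∧ g ∈ lstab Γ l := by
  simp [mem_lstab]

/-- The orbit of `y` under the pointwise stabilizer of the list `l`. -/
def lorb (Γ : Type*) {X : Type*} [Group Γ] [MulAction Γ X] (l : List X) (y : X) : Set X :=
  {z | ∃ s ∈ lstab Γ l, s • y = z}

/-- The fibres of `s ↦ s • y` on `lstab l`. -/
def fibreEquiv (l : List X) (y z : X) (s0 : Γ) (hs0 : s0 ∈ lstab Γ l) (hz : s0 • y = z) :
    {s : Γ // s ∈ lstab Γ l ∧ s • y = z} ≃ (lstab Γ (y :: l)) where
  toFun s := ⟨s0⁻¹ * s.1, by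
    rw [mem_lstab_cons]
    refine ⟨?_, mul_mem (inv_mem hs0) s.2.1⟩
    rw [mul_smul, s.2.2, ← hz, inv_smul_smul]⟩
  invFun s := ⟨s0 * s.1, mul_mem hs0 (mem_lstab_cons.mp s.2).2, by
    rw [mul_smul, (mem_lstab_cons.mp s.2).1, hz]⟩
  left_inv s := by apply Subtype.ext; simp
  right_inv s := by apply Subtype.ext; simp

variable [Finite Γ] [Finite X]

/-- Counting a subset of `lstab l` by the value of `s • y`. -/
theorem card_eq_sum (l : List X) (y : X) (P : Γ → Prop) [Fintype (lorb Γ l y)] :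
    Nat.card {s : Γ // s ∈ lstab Γ l ∧ P s} =
      ∑ z : lorb Γ l y, Nat.card {s : Γ // (s ∈ lstab Γ l ∧ s • y = z.1) ∧ P s} := by
  classical
  let f : {s : Γ // s ∈ lstab Γ l ∧ P s} → lorb Γ l y := fun s => ⟨s.1 • y, s.1, s.2.1, rfl⟩
  have h1 : Nat.card {s : Γ // s ∈ lstab Γ l ∧ P s} =
      Nat.card (Σ z : lorb Γ l y, {s : {s : Γ // s ∈ lstab Γ l ∧ P s} // f s = z}) :=
    Nat.card_congr (Equiv.sigmaFiberEquiv f).symm
  rw [h1, Nat.card_sigma]
  refine Finset.sum_congr rfl fun z _ => ?_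
  refine Nat.card_congr ⟨fun s => ⟨s.1.1, ⟨s.1.2.1, congrArg Subtype.val s.2⟩, s.1.2.2⟩,
    fun s => ⟨⟨s.1, s.2.1.1, s.2.2⟩, Subtype.ext s.2.1.2⟩, ?_, ?_⟩
  · intro s; rfl
  · intro s; rfl

theorem card_lstab (l : List X) (y : X) :
    Nat.card (lstab Γ l) = Nat.card (lorb Γ l y) * Nat.card (lstab Γ (y :: l)) := by
  classical
  have : Fintype (lorb Γ l y) := Fintype.ofFinite _
  have h := card_eq_sum (Γ := Γ) l y (fun _ => True)
  have h2 : Nat.card {s : Γ // s ∈ lstab Γ l ∧ True} = Nat.card (lstab Γ l) :=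
    Nat.card_congr (Equiv.subtypeEquivRight fun s => by simp)
  rw [← h2, h]
  have h3 : ∀ z : lorb Γ l y, Nat.card {s : Γ // (s ∈ lstab Γ l ∧ s • y = z.1) ∧ True}
      = Nat.card (lstab Γ (y :: l)) := by
    intro z
    obtain ⟨s0, hs0, hz⟩ := z.2
    rw [← Nat.card_congr (fibreEquiv l y z.1 s0 hs0 hz)]
    exact Nat.card_congr (Equiv.subtypeEquivRight fun s => by simp)
  rw [Finset.sum_congr rfl fun z _ => h3 z]
  simp [Nat.card_eq_fintype_card]

/-- The inductive form of the reveal lemma. -/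
theorem reveal_aux (a : X → X) (bad : List X → Set X) (C : Set X) (n L β : ℕ)
    (hL : ∀ l y, l.length < n → y ∉ bad l → L ≤ Nat.card (lorb Γ l y))
    (hβ : ∀ l, Nat.card {z : X // z ∈ C ∨ (l.length < n ∧ a z ∈ bad l)} ≤ β) :
    ∀ (j : ℕ) (l : List X) (g₁ : Γ) (x : X), a x ∉ bad l → l.length + j + 1 ≤ n →
      Nat.card {s : Γ // s ∈ lstab Γ l ∧ (fun x => (g₁ * s) • a x)^[j + 1] x ∈ C} * L ≤
        (j + 1) * β * Nat.card (lstab Γ l) := by
  classical
  intro j
  induction j with
  | zero =>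
    intro l g₁ x hx hl
    have : Fintype (lorb Γ l (a x)) := Fintype.ofFinite _
    rw [card_eq_sum l (a x)]
    have hS' : Nat.card (lstab Γ l) = Nat.card (lorb Γ l (a x)) * Nat.card (lstab Γ (a x :: l)) := card_lstab l (a x)
    have hL1 : L ≤ Nat.card (lorb Γ l (a x)) := hL l (a x) (by omega) hx
    have hz : ∀ z : lorb Γ l (a x), Nat.card {s : Γ // (s ∈ lstab Γ l ∧ s • a x = z.1) ∧
        (fun x => (g₁ * s) • a x)^[0 + 1] x ∈ C} ≤ if g₁ • z.1 ∈ C then Nat.card (lstab Γ (a x :: l)) else 0 := by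
      intro z
      obtain ⟨s0, hs0, hz⟩ := z.2
      split_ifs with hC
      · rw [← Nat.card_congr (fibreEquiv l (a x) z.1 s0 hs0 hz)]
        exact Nat.card_le_card_of_injective (fun s => (⟨s.1, s.2.1⟩ : {s : Γ // s ∈ lstab Γ l ∧ s • a x = z.1}))
          (fun s t h => by
            have h' := congrArg Subtype.val h
            exact Subtype.ext h')
      · rw [Nat.le_zero, Nat.card_eq_zero]
        left
        constructor
        rintro ⟨s, ⟨hs1, hs2⟩, hs3⟩
        apply hC
        simp only [zero_add, Function.iterate_one, mul_smul, hs2] at hs3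
        exact hs3
    have hcard : ∑ z : lorb Γ l (a x), (if g₁ • z.1 ∈ C then Nat.card (lstab Γ (a x :: l)) else 0) ≤
        β * Nat.card (lstab Γ (a x :: l)) := by
      rw [← Finset.sum_filter, Finset.sum_const, smul_eq_mul]
      apply Nat.mul_le_mul_right
      rw [← Fintype.card_coe, ← Nat.card_eq_fintype_card]
      refine le_trans (Nat.card_le_card_of_injective
        (fun z : {z // z ∈ Finset.filter (fun z : lorb Γ l (a x) => g₁ • z.1 ∈ C) Finset.univ} =>
          (⟨g₁ • z.1.1, Or.inl (Finset.mem_filter.mp z.2).2⟩ : {z : X // z ∈ C ∨ (l.length < n ∧ a z ∈ bad l)})) ?_) (hβ l)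
      intro z w h
      have := congrArg Subtype.val h
      simp only [smul_left_cancel_iff] at this
      exact Subtype.ext (Subtype.ext this)
    calc (∑ z : lorb Γ l (a x), Nat.card {s : Γ // (s ∈ lstab Γ l ∧ s • a x = z.1) ∧
            (fun x => (g₁ * s) • a x)^[0 + 1] x ∈ C}) * L
        ≤ (β * Nat.card (lstab Γ (a x :: l))) * L :=
          Nat.mul_le_mul_right _ ((Finset.sum_le_sum fun z _ => hz z).trans hcard)
      _ ≤ (β * Nat.card (lstab Γ (a x :: l))) * Nat.card (lorb Γ l (a x)) := Nat.mul_le_mul_left _ hL1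
      _ = (0 + 1) * β * Nat.card (lstab Γ l) := by rw [hS']; ring
  | succ j ih =>
    intro l g₁ x hx hl
    have : Fintype (lorb Γ l (a x)) := Fintype.ofFinite _
    rw [card_eq_sum l (a x)]
    have hS' : Nat.card (lstab Γ l) = Nat.card (lorb Γ l (a x)) * Nat.card (lstab Γ (a x :: l)) := card_lstab l (a x)
    have hL1 : L ≤ Nat.card (lorb Γ l (a x)) := hL l (a x) (by omega) hx
    set S' := Nat.card (lstab Γ (a x :: l)) with hS'def
    let B : X → Prop := fun z => z ∈ C ∨ ((a x :: l).length < n ∧ a z ∈ bad (a x :: l))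
    have hz : ∀ z : lorb Γ l (a x), Nat.card {s : Γ // (s ∈ lstab Γ l ∧ s • a x = z.1) ∧
        (fun x => (g₁ * s) • a x)^[j + 1 + 1] x ∈ C} * L ≤
          (if B (g₁ • z.1) then S' * L else 0) + (j + 1) * β * S' := by
      intro z
      obtain ⟨s0, hs0, hz⟩ := z.2
      by_cases hB : B (g₁ • z.1)
      · rw [if_pos hB]
        refine le_trans (Nat.mul_le_mul_right _ ?_) (Nat.le_add_right _ _)
        rw [hS'def, ← Nat.card_congr (fibreEquiv l (a x) z.1 s0 hs0 hz)]
        exact Nat.card_le_card_of_injective (fun s => (⟨s.1, s.2.1⟩ : {s : Γ // s ∈ lstab Γ l ∧ s • a x = z.1}))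
          (fun s t h => by
            have h' := congrArg Subtype.val h
            exact Subtype.ext h')
      · rw [if_neg hB, zero_add]
        have hB1 : a (g₁ • z.1) ∉ bad (a x :: l) := by
          intro h
          exact hB (Or.inr ⟨by simp only [List.length_cons]; omega, h⟩)
        have hih := ih (a x :: l) (g₁ * s0) (g₁ • z.1) hB1 (by simp only [List.length_cons]; omega)
        refine le_trans (Nat.mul_le_mul_right _ ?_) hih
        refine Nat.card_le_card_of_injective (fun s =>
          (⟨s0⁻¹ * s.1, ?_, ?_⟩ : {s : Γ // s ∈ lstab Γ (a x :: l) ∧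
            (fun x => (g₁ * s0 * s) • a x)^[j + 1] (g₁ • z.1) ∈ C})) ?_
        · exact (fibreEquiv l (a x) z.1 s0 hs0 hz ⟨s.1, s.2.1⟩).2
        · have h1 : g₁ * s0 * (s0⁻¹ * s.1) = g₁ * s.1 := by group
          rw [h1]
          have h2 := s.2.2
          rw [Function.iterate_succ_apply] at h2
          have h3 : (g₁ * s.1) • a x = g₁ • z.1 := by rw [mul_smul, s.2.1.2]
          rw [← h3]
          exact h2
        · intro s t h
          have := congrArg Subtype.val h
          simp only [mul_right_inj] at this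
          exact Subtype.ext this
    have hcard : ∑ z : lorb Γ l (a x), (if B (g₁ • z.1) then S' * L else 0) ≤ β * (S' * L) := by
      rw [← Finset.sum_filter, Finset.sum_const, smul_eq_mul]
      apply Nat.mul_le_mul_right
      rw [← Fintype.card_coe, ← Nat.card_eq_fintype_card]
      refine le_trans (Nat.card_le_card_of_injective
        (fun z : {z // z ∈ Finset.filter (fun z : lorb Γ l (a x) => B (g₁ • z.1)) Finset.univ} =>
          (⟨g₁ • z.1.1, (Finset.mem_filter.mp z.2).2⟩ :
            {z : X // z ∈ C ∨ ((a x :: l).length < n ∧ a z ∈ bad (a x :: l))})) ?_) (hβ (a x :: l))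
      intro z w h
      have := congrArg Subtype.val h
      simp only [smul_left_cancel_iff] at this
      exact Subtype.ext (Subtype.ext this)
    have hcardorb : (Finset.univ : Finset (lorb Γ l (a x))).card = Nat.card (lorb Γ l (a x)) := by
      rw [Finset.card_univ, Nat.card_eq_fintype_card]
    calc (∑ z : lorb Γ l (a x), Nat.card {s : Γ // (s ∈ lstab Γ l ∧ s • a x = z.1) ∧
            (fun x => (g₁ * s) • a x)^[j + 1 + 1] x ∈ C}) * L
        = ∑ z : lorb Γ l (a x), Nat.card {s : Γ // (s ∈ lstab Γ l ∧ s • a x = z.1) ∧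
            (fun x => (g₁ * s) • a x)^[j + 1 + 1] x ∈ C} * L := Finset.sum_mul _ _ _
      _ ≤ ∑ z : lorb Γ l (a x), ((if B (g₁ • z.1) then S' * L else 0) + (j + 1) * β * S') :=
          Finset.sum_le_sum fun z _ => hz z
      _ = ∑ z : lorb Γ l (a x), (if B (g₁ • z.1) then S' * L else 0) +
            Nat.card (lorb Γ l (a x)) * ((j + 1) * β * S') := by
          rw [Finset.sum_add_distrib, Finset.sum_const, hcardorb, smul_eq_mul]
      _ ≤ β * (S' * L) + Nat.card (lorb Γ l (a x)) * ((j + 1) * β * S') := Nat.add_le_add_right hcard _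
      _ ≤ β * (S' * Nat.card (lorb Γ l (a x))) + Nat.card (lorb Γ l (a x)) * ((j + 1) * β * S') :=
          Nat.add_le_add_right (Nat.mul_le_mul_left _ (Nat.mul_le_mul_left _ hL1)) _
      _ = (j + 1 + 1) * β * Nat.card (lstab Γ l) := by rw [hS']; ring

/-- **Reveal lemma**. -/
theorem reveal (a : X → X) (bad : List X → Set X) (C : Set X) (n L β : ℕ) (hn : 0 < n)
    (hL : ∀ l y, l.length < n → y ∉ bad l → L ≤ Nat.card (lorb Γ l y))
    (hβ : ∀ l, Nat.card {z : X // z ∈ C ∨ (l.length < n ∧ a z ∈ bad l)} ≤ β)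
    (x : X) (hx : a x ∉ bad []) :
    Nat.card {g : Γ // (fun x => g • a x)^[n] x ∈ C} * L ≤ n * β * Nat.card Γ := by
  obtain ⟨j, rfl⟩ : ∃ j, n = j + 1 := ⟨n - 1, by omega⟩
  have h := reveal_aux (Γ := Γ) a bad C (j + 1) L β hL hβ j [] 1 x hx (by simp)
  have h1 : Nat.card (lstab Γ ([] : List X)) = Nat.card Γ := by
    have : lstab Γ ([] : List X) = ⊤ := by
      ext g; simp [mem_lstab]
    rw [this]
    exact Nat.card_congr Subgroup.topEquiv.toEquiv
  rw [h1] at h
  refine le_trans (le_of_eq ?_) h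
  congr 1
  refine Nat.card_congr (Equiv.subtypeEquivRight fun g => ?_)
  simp [mem_lstab]

end Cfsg.Agent.H331.BF
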