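import Cfsg.Agent.H331.BFNorm
import Cfsg.Agent.H331.BFReveal
import Cfsg.Agent.S2119

/-!
The alternating groups in the general Brauer-Fowler bound.
-/

set_option autoImplicit false
set_option linter.unusedSectionVars false

namespace Cfsg.Agent.H331.BF

open Equiv Equiv.Perm

theorem lorb_alt {m : ℕ} (l : List (Fin m)) (y : Fin m) (hl : l.length + 3 ≤ m) (hy : y ∉ l) :
    m - l.length ≤ Nat.card (lorb (alternatingGroup (Fin m)) l y) := by
  classical
  -- all points outside `l` lie in the orbit
  have hsub : ∀ z, z ∉ l → z ∈ lorb (alternatingGroup (Fin m)) l y := by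
    intro z hz
    by_cases hyz : y = z
    · exact ⟨1, one_mem _, by rw [one_smul, hyz]⟩
    · obtain ⟨w, hw⟩ : ∃ w, w ∉ (insert y (insert z l.toFinset) : Finset (Fin m)) := by
        by_contra hcon
        push Not at hcon
        have h1 : (Finset.univ : Finset (Fin m)) ⊆ insert y (insert z l.toFinset) := fun x _ => hcon x
        have h2 := Finset.card_le_card h1
        have h3 : (insert y (insert z l.toFinset) : Finset (Fin m)).card ≤ l.length + 2 := by
          refine le_trans (Finset.card_insert_le _ _) ?_
          refine Nat.succ_le_succ (le_trans (Finset.card_insert_le _ _) ?_)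
          exact Nat.succ_le_succ (List.toFinset_card_le l)
        rw [Finset.card_univ, Fintype.card_fin] at h2
        omega
      simp only [Finset.mem_insert, List.mem_toFinset, not_or] at hw
      obtain ⟨hwy, hwz, hwl⟩ := hw
      refine ⟨⟨swap y w * swap y z, ?_⟩, ?_, ?_⟩
      · rw [mem_alternatingGroup, Perm.sign_mul, sign_swap hyz, sign_swap (Ne.symm hwy)]
        decide
      · intro x hx
        change (swap y w * swap y z) x = x
        have hxy : x ≠ y := fun h => hy (h ▸ hx)
        have hxz : x ≠ z := fun h => hz (h ▸ hx)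
        have hxw : x ≠ w := fun h => hwl (h ▸ hx)
        rw [Perm.mul_apply, swap_apply_of_ne_of_ne hxy hxz, swap_apply_of_ne_of_ne hxy hxw]
      · change (swap y w * swap y z) y = z
        rw [Perm.mul_apply, swap_apply_left, swap_apply_of_ne_of_ne (Ne.symm hyz) (Ne.symm hwz)]
  have h1 : (Finset.univ \ l.toFinset : Finset (Fin m)).card ≤ Nat.card (lorb (alternatingGroup (Fin m)) l y) := by
    rw [← Fintype.card_coe, ← Nat.card_eq_fintype_card]
    refine Nat.card_le_card_of_injective (fun z : {z // z ∈ (Finset.univ \ l.toFinset : Finset (Fin m))} =>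
      (⟨z.1, hsub z.1 ?_⟩ : lorb (alternatingGroup (Fin m)) l y)) ?_
    · have := (Finset.mem_sdiff.mp z.2).2
      rwa [List.mem_toFinset] at this
    · intro a b h
      have h' := congrArg Subtype.val h
      exact Subtype.ext h'
  refine le_trans ?_ h1
  rw [Finset.card_sdiff_of_subset (Finset.subset_univ _), Finset.card_univ, Fintype.card_fin]
  have := List.toFinset_card_le l
  omega

/-- the walk for `α = conj s` -/
theorem alt_iter {m : ℕ} (s : Perm (Fin m)) (α : MulAut (alternatingGroup (Fin m)))
    (hα : ∀ x : alternatingGroup (Fin m), ((α x : alternatingGroup (Fin m)) : Perm (Fin m)) = s * x * s⁻¹)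
    (g : alternatingGroup (Fin m)) (j : ℕ) (x : Fin m) :
    (fun x => g • s x)^[j] x = ((Nm α j g : alternatingGroup (Fin m)) : Perm (Fin m)) ((s ^ j) x) := by
  induction j with
  | zero => simp
  | succ j ih =>
    rw [Function.iterate_succ_apply', ih, Nm_succ']
    change (g : Perm (Fin m)) (s _) = _
    rw [Subgroup.coe_mul, hα, pow_succ']
    simp [Perm.mul_apply]

theorem alt_bound {m n k : ℕ} (hn : 0 < n) (hm : 5 ≤ m) (h6 : m ≠ 6) (α : MulAut (alternatingGroup (Fin m)))
    (hα : α ^ n = 1) (hk : Nat.card {x : alternatingGroup (Fin m) // α x = x} ≤ k) :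
    m ≤ n + 3 + k * (n * (n + 1)) := by
  classical
  by_contra hcon
  push Not at hcon
  obtain ⟨hinj, hsurj⟩ := S2119.result m (by omega) h6
  obtain ⟨s, hs⟩ := hsurj α
  have hsα : ∀ x : alternatingGroup (Fin m), ((α x : alternatingGroup (Fin m)) : Perm (Fin m)) = s * x * s⁻¹ := by
    intro x
    rw [← hs, MulAut.conjNormal_apply]
  have hsn : s ^ n = 1 := by
    apply hinj
    rw [map_pow, hs, hα, map_one]
  let x0 : Fin m := ⟨0, by omega⟩
  have hr := reveal (Γ := alternatingGroup (Fin m)) (fun x => s x) (fun l => {z | z ∈ l}) {x0} n (m - n)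
    (n + 1) hn ?_ ?_ x0 (by simp)
  · have hcov := card_le_mul_fix α n hα
    have hZle : Nat.card {g : alternatingGroup (Fin m) // Nm α n g = 1} ≤
        Nat.card {g : alternatingGroup (Fin m) // (fun x => g • s x)^[n] x0 ∈ ({x0} : Set (Fin m))} := by
      refine Nat.card_le_card_of_injective (fun g : {g : alternatingGroup (Fin m) // Nm α n g = 1} =>
        (⟨g.1, ?_⟩ : {g : alternatingGroup (Fin m) // (fun x => g • s x)^[n] x0 ∈ ({x0} : Set (Fin m))})) ?_
      · rw [Set.mem_singleton_iff, alt_iter s α hsα, g.2, hsn]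
        rfl
      · intro a b h
        have h' := congrArg Subtype.val h
        exact Subtype.ext h'
    have hpos : 0 < Nat.card (alternatingGroup (Fin m)) := Nat.card_pos
    have hfinal : Nat.card (alternatingGroup (Fin m)) * (m - n) ≤
        Nat.card (alternatingGroup (Fin m)) * (k * (n * (n + 1))) :=
      calc Nat.card (alternatingGroup (Fin m)) * (m - n)
          ≤ (Nat.card {g : alternatingGroup (Fin m) // Nm α n g = 1} * k) * (m - n) :=
            Nat.mul_le_mul_right _ (hcov.trans (Nat.mul_le_mul_left _ hk))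
        _ = k * (Nat.card {g : alternatingGroup (Fin m) // Nm α n g = 1} * (m - n)) := by ring
        _ ≤ k * (Nat.card {g : alternatingGroup (Fin m) // (fun x => g • s x)^[n] x0 ∈ ({x0} : Set (Fin m))}
              * (m - n)) := Nat.mul_le_mul_left _ (Nat.mul_le_mul_right _ hZle)
        _ ≤ k * (n * (n + 1) * Nat.card (alternatingGroup (Fin m))) := Nat.mul_le_mul_left _ hr
        _ = _ := by ring
    have := Nat.le_of_mul_le_mul_left hfinal hpos
    omega
  · intro l y hl hy
    refine le_trans ?_ (lorb_alt l y (by omega) hy)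
    omega
  · intro l
    have h1 : Nat.card {z : Fin m // z ∈ ({x0} : Set (Fin m)) ∨ (l.length < n ∧ s z ∈ {z | z ∈ l})} ≤
        (insert x0 ((if l.length < n then l.toFinset else ∅).image (fun z => s⁻¹ z)) : Finset (Fin m)).card := by
      rw [← Fintype.card_coe, ← Nat.card_eq_fintype_card]
      refine Nat.card_le_card_of_injective (fun z : {z : Fin m // z ∈ ({x0} : Set (Fin m)) ∨
          (l.length < n ∧ s z ∈ {z | z ∈ l})} => (⟨z.1, ?_⟩ :
          {z // z ∈ (insert x0 ((if l.length < n then l.toFinset else ∅).image (fun z => s⁻¹ z)) :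
            Finset (Fin m))})) ?_
      · rcases z.2 with h | ⟨h1, h2⟩
        · rw [Set.mem_singleton_iff] at h
          rw [h]
          exact Finset.mem_insert_self _ _
        · refine Finset.mem_insert_of_mem (Finset.mem_image.mpr ⟨s z.1, ?_, by simp⟩)
          rw [if_pos h1, List.mem_toFinset]
          exact h2
      · intro a b h
        have h' := congrArg Subtype.val h
        exact Subtype.ext h'
    refine le_trans h1 (le_trans (Finset.card_insert_le _ _) ?_)
    refine Nat.succ_le_succ (le_trans Finset.card_image_le ?_)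
    split_ifs with h
    · exact le_trans (List.toFinset_card_le l) h.le
    · simp

/-- **Alternating groups.** -/
theorem bdd_alt (n k : ℕ) (hn : 0 < n) : ∃ B : ℕ, ∀ m : ℕ, 5 ≤ m → Bdd n k B (alternatingGroup (Fin m)) := by
  refine ⟨(6 + (n + 3 + k * (n * (n + 1)))).factorial, fun m hm α hα hk => ?_⟩
  have h1 : m ≤ 6 + (n + 3 + k * (n * (n + 1))) := by
    by_cases h6 : m = 6
    · omega
    · exact (alt_bound hn hm h6 α hα hk).trans (Nat.le_add_left _ _)
  calc Nat.card (alternatingGroup (Fin m)) ≤ Nat.card (Perm (Fin m)) :=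
        Nat.card_le_card_of_injective _ (Subgroup.subtype_injective _)
    _ = m.factorial := by rw [Nat.card_perm, Nat.card_eq_fintype_card, Fintype.card_fin]
    _ ≤ _ := Nat.factorial_le h1

end Cfsg.Agent.H331.BF
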