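import Cfsg.Agent.H331.BFSemi

/-!
Convenience forms for the classical groups over `K` itself (linear, symplectic, orthogonal), and dimension counting for
the set of vectors orthogonal to a short list.
-/

set_option autoImplicit false
set_option linter.unusedSectionVars false

namespace Cfsg.Agent.H331.BF

open Module Polynomial Matrix

variable {Γ T : Type*} [Group Γ] [Group T] {K : Type*} [Field K] {ι : Type*} [Fintype ι] [DecidableEq ι]

/-- the explicit bound of `classical_univ` -/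
def clB (n k D D' N : ℕ) : ℕ := (2 * (k * (2 * (N * D') + n * D)) ^ 2) ^ (2 * n) + (2 * D) ^ 6

/-- `classical_bound` with `K' = K`. -/
theorem classical_univ [Finite K] [Finite Γ] [Finite T] {π : Γ →* T} (hπ : Function.Surjective π)
    {ρ : Γ →* Matrix ι ι K} {σ : K ≃+* K} {A : Matrix ι ι K} (hA : IsUnit A) {α : MulAut T}
    (h : SemiInd π ρ σ A α) (hker : ∀ z : Γ, π z = 1 → ∃ c : K, ρ z = c • (1 : Matrix ι ι K))
    {n k : ℕ} (hn : 0 < n) (hα : α ^ n = 1) (hk : Nat.card {x : T // α x = x} ≤ k)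
    (hι : 2 ≤ Fintype.card ι)
    (x0 : K → Γ) {D D' : ℕ} (hD : 0 < D) (e f : ι → K)
    (hx0 : ∀ b c, ∃ P : K[X], P.natDegree ≤ D ∧ P.coeff D = e b * f c ∧ ∀ s : K, ρ (x0 s) b c = P.eval s)
    (hinv : ∀ s, (x0 s)⁻¹ = x0 (-s))
    (g1 : Γ) (hg1 : f ⬝ᵥ (ρ g1 *ᵥ e) ≠ 0) (hg1' : f ⬝ᵥ (ρ g1⁻¹ *ᵥ e) ≠ 0)
    {I : Type*} (x : I → K → Γ) (hx00 : ∀ i, x i 0 = 1)
    (hgen : Subgroup.closure {g | ∃ i s, x i s = g} = ⊤)
    (hpoly : ∀ i a b, ∃ P : K[X], P.natDegree ≤ D' ∧ ∀ s : K, ρ (x i s) a b = P.eval s)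
    (hex : ∀ w : ι → K, w ≠ 0 → ∃ g, f ⬝ᵥ (ρ g *ᵥ w) ≠ 0) :
    Nat.card K ≤ clB n k D D' (Fintype.card ι) := by
  classical
  have : Fintype K := Fintype.ofFinite K
  have hc1 : (Finset.univ : Finset K).card = Nat.card K := by
    rw [Finset.card_univ, Nat.card_eq_fintype_card]
  have hc2 : (Finset.univ.filter (fun t : K => σ t = t)).card = Nat.card {t : K // σ t = t} := by
    rw [Nat.card_eq_fintype_card, Fintype.card_subtype]
  have hpos : 0 < Nat.card {t : K // σ t = t} := by
    have : Nonempty {t : K // σ t = t} := ⟨⟨0, map_zero σ⟩⟩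
    exact Nat.card_pos
  refine classical_bound hπ hA h hker hn hα hk hι Finset.univ (Finset.univ.filter (fun t : K => σ t = t)) ?_
    (Finset.subset_univ _) ?_ ?_ (Finset.mem_univ _) x0 hD e f ?_ ?_ g1 hg1 hg1' x hx00 ?_ ?_ hex
  · rw [hc1]
    have : 0 < Nat.card K := Nat.card_pos
    nlinarith
  · intro s hs
    exact (Finset.mem_filter.mp hs).2
  · rw [hc2]
    nlinarith
  · intro b c
    obtain ⟨P, h1, h2, h3⟩ := hx0 b c
    exact ⟨P, h1, h2, fun s _ => h3 s⟩
  · intro b c
    obtain ⟨P, h1, h2, h3⟩ := hx0 b c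
    refine ⟨P.comp (C (-1) * X), ?_, ?_, fun s _ => ?_⟩
    · refine le_trans natDegree_comp_le ?_
      have h4 : (C (-1 : K) * X).natDegree ≤ 1 := le_trans (natDegree_C_mul_le _ _) natDegree_X_le
      calc P.natDegree * (C (-1 : K) * X).natDegree ≤ P.natDegree * 1 := Nat.mul_le_mul_left _ h4
        _ ≤ D := by rw [mul_one]; exact h1
    · rw [comp_C_mul_X_coeff, h2, Matrix.smul_apply, Matrix.vecMulVec_apply, smul_eq_mul]
      ring
    · change ρ (x0 s)⁻¹ b c = _
      rw [hinv, h3, eval_comp]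
      simp
  · rw [← hgen]
    congr 1
    ext g
    constructor
    · rintro ⟨i, s, _, h⟩; exact ⟨i, s, h⟩
    · rintro ⟨i, s, h⟩; exact ⟨i, s, Finset.mem_univ _, h⟩
  · intro i a b
    obtain ⟨P, h1, h2⟩ := hpoly i a b
    exact ⟨P, h1, fun s _ => h2 s⟩

theorem clB_mono {n k D D' : ℕ} {N N' : ℕ} (h : N ≤ N') : clB n k D D' N ≤ clB n k D D' N' := by
  unfold clB
  gcongr

/-- the vectors killed by a list of functionals form a subspace of codimension at most the length of the list -/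
theorem card_le_of_functionals [Finite K] (φ : List ((ι → K) →ₗ[K] K)) :
    Nat.card K ^ (Fintype.card ι - φ.length) ≤ Nat.card {u : ι → K // ∀ f ∈ φ, f u = 0} := by
  let Φ : (ι → K) →ₗ[K] (Fin φ.length → K) := LinearMap.pi fun i => φ.get i
  have h1 : Fintype.card ι ≤ finrank K (LinearMap.ker Φ) + φ.length := by
    have := LinearMap.finrank_range_add_finrank_ker Φ
    rw [finrank_pi] at this
    have h2 : finrank K (LinearMap.range Φ) ≤ φ.length := by
      refine le_trans (Submodule.finrank_le _) ?_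
      rw [finrank_pi, Fintype.card_fin]
    omega
  have h2 : Nat.card {u : ι → K // ∀ f ∈ φ, f u = 0} = Nat.card (LinearMap.ker Φ) := by
    refine Nat.card_congr (Equiv.subtypeEquivRight fun u => ?_)
    rw [LinearMap.mem_ker]
    constructor
    · intro h
      funext i
      exact h _ (List.get_mem φ i)
    · intro h f hf
      obtain ⟨i, rfl⟩ := List.mem_iff_get.mp hf
      exact congrFun h i
  rw [h2, Module.natCard_eq_pow_finrank (K := K) (V := LinearMap.ker Φ)]
  exact Nat.pow_le_pow_right (Nat.card_pos (α := K)) (by omega)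

/-- a vector outside the span of a list is detected by a functional vanishing on the list -/
theorem exists_functional_of_notMem (l : List (ι → K)) {y : ι → K} (hy : y ∉ Submodule.span K {v | v ∈ l}) :
    ∃ f : (ι → K) →ₗ[K] K, (∀ v ∈ l, f v = 0) ∧ f y ≠ 0 := by
  obtain ⟨f, hf1, hf2⟩ := Submodule.exists_le_ker_of_notMem hy
  refine ⟨f, fun v hv => hf2 (Submodule.subset_span hv), hf1⟩

end Cfsg.Agent.H331.BF
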