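import Cfsg.Agent.H331.BFNorm
import Cfsg.Agent.H331.BFZariski
import Cfsg.Agent.H331.BFPoly
import Cfsg.Agent.H331.BFField

/-!
Bounded dimension, growing field, for groups `T = Γ / (scalars)` with `Γ` a matrix group and `α` induced by a
semilinear map. The group contains a one-parameter family `x0 s` whose matrix is a polynomial in `s` with leading
coefficient of rank one, and is generated by polynomial families.
-/

set_option autoImplicit false
set_option linter.unusedSectionVars false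

namespace Cfsg.Agent.H331.BF

open Module Polynomial Matrix

section poly

variable {K : Type*} [Field K] {ι : Type*} [Fintype ι]

/-- `F` is on `S` a vector valued polynomial of degree at most `d` with coefficient `w` in degree `d`. -/
def PV (S : Finset K) (d : ℕ) (w : ι → K) (F : K → ι → K) : Prop :=
  ∀ b, ∃ P : K[X], P.natDegree ≤ d ∧ P.coeff d = w b ∧ ∀ s ∈ S, F s b = P.eval s

theorem PV.const (S : Finset K) (w : ι → K) : PV S 0 w (fun _ => w) := fun b =>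
  ⟨C (w b), by simp, by simp, by simp⟩

/-- semilinear map `v ↦ A σ(v)` -/
def sl (σ : K ≃+* K) (A : Matrix ι ι K) (v : ι → K) : ι → K := A *ᵥ (fun i => σ (v i))

theorem sl_smul (σ : K ≃+* K) (A : Matrix ι ι K) (c : K) (v : ι → K) : sl σ A (c • v) = σ c • sl σ A v := by
  unfold sl
  rw [← Matrix.mulVec_smul]
  congr 1
  funext i
  simp

theorem PV.sl {S : Finset K} {d : ℕ} {w : ι → K} {F : K → ι → K} (h : PV S d w F) (σ : K ≃+* K)
    (hS : ∀ s ∈ S, σ s = s) (A : Matrix ι ι K) : PV S d (sl σ A w) (fun s => sl σ A (F s)) := by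
  intro b
  choose P hP1 hP2 hP3 using h
  refine ⟨∑ c, C (A b c) * (P c).map (σ : K →+* K), ?_, ?_, ?_⟩
  · refine natDegree_sum_le_of_forall_le _ _ fun c _ => ?_
    exact le_trans (natDegree_C_mul_le _ _) (le_trans natDegree_map_le (hP1 c))
  · rw [finsetSum_coeff]
    simp only [coeff_C_mul, coeff_map, hP2, BF.sl, Matrix.mulVec, dotProduct]
    rfl
  · intro s hs
    simp only [eval_finsetSum, eval_mul, eval_C, BF.sl, Matrix.mulVec, dotProduct]
    refine Finset.sum_congr rfl fun c _ => ?_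
    rw [hP3 c s hs]
    congr 1
    have h1 : s = (σ : K →+* K) s := (hS s hs).symm
    conv_rhs => rw [h1]
    rw [eval_map_apply]
    rfl

theorem PV.mulVec {S : Finset K} {d : ℕ} {w : ι → K} {F : K → ι → K} (h : PV S d w F)
    (A : Matrix ι ι K) : PV S d (A *ᵥ w) (fun s => A *ᵥ (F s)) := by
  intro b
  choose P hP1 hP2 hP3 using h
  refine ⟨∑ c, C (A b c) * (P c), ?_, ?_, ?_⟩
  · refine natDegree_sum_le_of_forall_le _ _ fun c _ => ?_
    exact le_trans (natDegree_C_mul_le _ _) (hP1 c)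
  · rw [finsetSum_coeff]
    simp only [coeff_C_mul, hP2, Matrix.mulVec, dotProduct]
  · intro s hs
    simp only [eval_finsetSum, eval_mul, eval_C, Matrix.mulVec, dotProduct]
    refine Finset.sum_congr rfl fun c _ => ?_
    rw [hP3 c s hs]

/-- `M` is on `S` a matrix valued polynomial of degree at most `d` with coefficient `E` in degree `d`. -/
def PM (S : Finset K) (d : ℕ) (E : Matrix ι ι K) (M : K → Matrix ι ι K) : Prop :=
  ∀ b c, ∃ P : K[X], P.natDegree ≤ d ∧ P.coeff d = E b c ∧ ∀ s ∈ S, M s b c = P.eval s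

theorem PM.mulVec {S : Finset K} {D d : ℕ} {E : Matrix ι ι K} {M : K → Matrix ι ι K} {w : ι → K} {F : K → ι → K}
    (hM : PM S D E M) (h : PV S d w F) : PV S (D + d) (E *ᵥ w) (fun s => M s *ᵥ F s) := by
  intro b
  choose P hP1 hP2 hP3 using h
  choose Q hQ1 hQ2 hQ3 using hM
  refine ⟨∑ c, Q b c * P c, ?_, ?_, ?_⟩
  · refine natDegree_sum_le_of_forall_le _ _ fun c _ => ?_
    exact le_trans natDegree_mul_le (add_le_add (hQ1 b c) (hP1 c))
  · rw [finsetSum_coeff]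
    simp only [Matrix.mulVec, dotProduct]
    refine Finset.sum_congr rfl fun c _ => ?_
    rw [coeff_mul_add_eq_of_natDegree_le (hQ1 b c) (hP1 c), hQ2, hP2]
  · intro s hs
    simp only [eval_finsetSum, eval_mul, Matrix.mulVec, dotProduct]
    refine Finset.sum_congr rfl fun c _ => ?_
    rw [hP3 c s hs, hQ3 b c s hs]

end poly

section spread

variable {Γ : Type*} [Group Γ] [Finite Γ] {K : Type*} [Field K] {ι : Type*} [Fintype ι] [DecidableEq ι]

/-- **Spread lemma**: if `f · (g w) ≠ 0` for some `g`, then this holds for most `g`. -/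
theorem spread (ρ : Γ →* Matrix ι ι K) {D : ℕ} (S : Finset K) (h0 : (0 : K) ∈ S)
    {I : Type*} (x : I → K → Γ) (hx0 : ∀ i, x i 0 = 1)
    (hgen : Subgroup.closure {g | ∃ i, ∃ s ∈ S, x i s = g} = ⊤)
    (hpoly : ∀ i a b, ∃ P : K[X], P.natDegree ≤ D ∧ ∀ s ∈ S, ρ (x i s) a b = P.eval s)
    (f w : ι → K) (hex : ∃ g, f ⬝ᵥ (ρ g *ᵥ w) ≠ 0) :
    Nat.card {g // f ⬝ᵥ (ρ g *ᵥ w) = 0} * S.card ≤ Fintype.card ι * D * Nat.card Γ := by
  let φ : ι → Γ → K := fun b g => (ρ g *ᵥ w) b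
  let 𝓕 : Submodule K (Γ → K) := Submodule.span K (Set.range φ)
  have hfr : finrank K 𝓕 ≤ Fintype.card ι := finrank_range_le_card φ
  have htr : ∀ F ∈ 𝓕, ∀ h : Γ, (fun g => F (h * g)) ∈ 𝓕 := by
    intro F hF h
    induction hF using Submodule.span_induction with
    | mem F hF =>
      obtain ⟨b, rfl⟩ := hF
      have h1 : (fun g => φ b (h * g)) = ∑ c, ρ h b c • φ c := by
        funext g
        simp only [φ, map_mul, ← Matrix.mulVec_mulVec, Finset.sum_apply, Pi.smul_apply, smul_eq_mul]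
        rfl
      rw [h1]
      exact Submodule.sum_mem _ fun c _ => Submodule.smul_mem _ _ (Submodule.subset_span ⟨_, rfl⟩)
    | zero => exact Submodule.zero_mem _
    | add F G _ _ hF hG => exact Submodule.add_mem _ hF hG
    | smul c F _ hF => exact Submodule.smul_mem _ c hF
  have hp : ∀ F ∈ 𝓕, ∀ i g, ∃ P : K[X], P.natDegree ≤ D ∧ ∀ s ∈ S, F (x i s * g) = P.eval s := by
    intro F hF i g
    induction hF using Submodule.span_induction with
    | mem F hF =>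
      obtain ⟨b, rfl⟩ := hF
      choose P hP1 hP2 using hpoly i
      refine ⟨∑ c, P b c * C ((ρ g *ᵥ w) c), ?_, ?_⟩
      · refine natDegree_sum_le_of_forall_le _ _ fun c _ => ?_
        exact le_trans (natDegree_mul_C_le _ _) (hP1 b c)
      · intro s hs
        simp only [φ, map_mul, ← Matrix.mulVec_mulVec, eval_finsetSum, eval_mul, eval_C]
        refine Finset.sum_congr rfl fun c _ => ?_
        exact congrArg (· * (ρ g *ᵥ w) c) (hP2 b c s hs)
    | zero => exact ⟨0, by simp, by simp⟩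
    | add F G _ _ hF hG =>
      obtain ⟨P, hP, hP'⟩ := hF
      obtain ⟨Q, hQ, hQ'⟩ := hG
      refine ⟨P + Q, le_trans (natDegree_add_le _ _) (max_le hP hQ), fun s hs => ?_⟩
      simp [hP' s hs, hQ' s hs]
    | smul c F _ hF =>
      obtain ⟨P, hP, hP'⟩ := hF
      refine ⟨C c * P, le_trans (natDegree_C_mul_le _ _) hP, fun s hs => ?_⟩
      simp [hP' s hs]
  let F : Γ → K := ∑ b, f b • φ b
  have hF : F ∈ 𝓕 := Submodule.sum_mem _ fun b _ => Submodule.smul_mem _ _ (Submodule.subset_span ⟨_, rfl⟩)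
  have hFeq : ∀ g, F g = f ⬝ᵥ (ρ g *ᵥ w) := by
    intro g
    simp [F, φ, dotProduct]
  have hne : F ≠ 0 := by
    obtain ⟨g, hg⟩ := hex
    intro h
    apply hg
    rw [← hFeq, h]; rfl
  have h := zariski 𝓕 (S := S) (fun i s => x i s.1) ⟨0, h0⟩ (fun i => hx0 i) ?_ htr D ?_ F hF hne
  · rw [Nat.card_eq_fintype_card (α := S), Fintype.card_coe] at h
    have h2 : Nat.card {g // f ⬝ᵥ (ρ g *ᵥ w) = 0} = Nat.card {g // F g = 0} :=
      Nat.card_congr (Equiv.subtypeEquivRight fun g => by rw [hFeq])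
    rw [h2]
    exact le_trans h (Nat.mul_le_mul_right _ (Nat.mul_le_mul_right _ hfr))
  · rw [← hgen]
    congr 1
    ext g
    constructor
    · rintro ⟨i, s, rfl⟩; exact ⟨i, s.1, s.2, rfl⟩
    · rintro ⟨i, s, hs, rfl⟩; exact ⟨i, ⟨s, hs⟩, rfl⟩
  · intro F hF i g
    obtain ⟨P, hP, hP'⟩ := hp F hF i g
    exact card_roots_le hP (fun s => F (x i s * g)) hP'

end spread

section direct

variable {Γ T : Type*} [Group Γ] [Group T] {K : Type*} [Field K] {ι : Type*} [Fintype ι] [DecidableEq ι]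

/-- `α` is induced through `π : Γ → T`, `ρ : Γ → Mat` by the semilinear map `v ↦ A σ(v)`. -/
def SemiInd (π : Γ →* T) (ρ : Γ →* Matrix ι ι K) (σ : K ≃+* K) (A : Matrix ι ι K) (α : MulAut T) : Prop :=
  ∀ g : Γ, ∃ g' : Γ, π g' = α (π g) ∧ ρ g' * A = A * (ρ g).map σ

theorem SemiInd.sl {π : Γ →* T} {ρ : Γ →* Matrix ι ι K} {σ : K ≃+* K} {A : Matrix ι ι K} {α : MulAut T}
    (h : SemiInd π ρ σ A α) (g : Γ) : ∃ g' : Γ, π g' = α (π g) ∧ ∀ v, sl σ A (ρ g *ᵥ v) = ρ g' *ᵥ sl σ A v := by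
  obtain ⟨g', h1, h2⟩ := h g
  refine ⟨g', h1, fun v => ?_⟩
  unfold BF.sl
  rw [Matrix.mulVec_mulVec, h2, ← Matrix.mulVec_mulVec]
  congr 1
  funext i
  simp [Matrix.mulVec, dotProduct, map_sum]

/-- `(g ∘ a) ^ m = (Nm g) ∘ a ^ m`. -/
theorem SemiInd.iter {π : Γ →* T} {ρ : Γ →* Matrix ι ι K} {σ : K ≃+* K} {A : Matrix ι ι K} {α : MulAut T}
    (h : SemiInd π ρ σ A α) (g : Γ) (m : ℕ) :
    ∃ z : Γ, π z = Nm α m (π g) ∧ ∀ v, (fun v => ρ g *ᵥ BF.sl σ A v)^[m] v = ρ z *ᵥ (BF.sl σ A)^[m] v := by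
  induction m with
  | zero => exact ⟨1, by simp, fun v => by simp⟩
  | succ m ih =>
    obtain ⟨z, hz1, hz2⟩ := ih
    obtain ⟨z', hz1', hz2'⟩ := h.sl z
    refine ⟨g * z', ?_, fun v => ?_⟩
    · rw [map_mul, hz1', hz1, Nm_succ']
    · rw [Function.iterate_succ_apply', hz2, hz2', Function.iterate_succ_apply', map_mul, Matrix.mulVec_mulVec]

theorem SemiInd.iter_eq_one {π : Γ →* T} {ρ : Γ →* Matrix ι ι K} {σ : K ≃+* K} {A : Matrix ι ι K} {α : MulAut T}
    (h : SemiInd π ρ σ A α) (hker : ∀ z : Γ, π z = 1 → ∃ c : K, ρ z = c • (1 : Matrix ι ι K)) {g : Γ} {n : ℕ}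
    (hg : Nm α n (π g) = 1) :
    ∃ c : K, ∀ v, (fun v => ρ g *ᵥ BF.sl σ A v)^[n] v = c • (BF.sl σ A)^[n] v := by
  obtain ⟨z, hz1, hz2⟩ := h.iter g n
  rw [hg] at hz1
  obtain ⟨c, hc⟩ := hker z hz1
  refine ⟨c, fun v => ?_⟩
  rw [hz2, hc, Matrix.smul_mulVec, Matrix.one_mulVec]

/-- The walk `((x0 s * g) ∘ a)^m v0` is polynomial in `s`, with leading coefficient a non-zero multiple of `e`. -/
theorem walk_poly (ρ : Γ →* Matrix ι ι K) (σ : K ≃+* K) (A : Matrix ι ι K) (S : Finset K) (hS : ∀ s ∈ S, σ s = s)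
    (x0 : K → Γ) {D : ℕ} (e f : ι → K) (hx0 : PM S D (Matrix.vecMulVec e f) (fun s => ρ (x0 s)))
    (g : Γ) (v0 : ι → K) (h1 : f ⬝ᵥ (ρ g *ᵥ sl σ A v0) ≠ 0) (h2 : f ⬝ᵥ (ρ g *ᵥ sl σ A e) ≠ 0) (m : ℕ) :
    ∃ c : K, c ≠ 0 ∧ PV S ((m + 1) * D) (c • e) (fun s => (fun v => ρ (x0 s * g) *ᵥ sl σ A v)^[m + 1] v0) := by
  have hE : ∀ w : ι → K, Matrix.vecMulVec e f *ᵥ w = (f ⬝ᵥ w) • e := by
    intro w
    rw [Matrix.vecMulVec_mulVec]
    simp
  induction m with
  | zero =>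
    refine ⟨_, h1, ?_⟩
    rw [← hE]
    have := hx0.mulVec ((((PV.const S v0).sl σ hS A)).mulVec (ρ g))
    simp only [zero_add, one_mul, Function.iterate_one, map_mul, ← Matrix.mulVec_mulVec]
    simpa using this
  | succ m ih =>
    obtain ⟨c, hc, hPV⟩ := ih
    refine ⟨f ⬝ᵥ (ρ g *ᵥ sl σ A (c • e)), ?_, ?_⟩
    · rw [sl_smul, Matrix.mulVec_smul, dotProduct_smul, smul_eq_mul]
      exact mul_ne_zero (by simpa using hc) h2
    · rw [← hE]
      have := hx0.mulVec (((hPV.sl σ hS A)).mulVec (ρ g))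
      simp only [Function.iterate_succ_apply', map_mul, ← Matrix.mulVec_mulVec] at this ⊢
      have h3 : (m + 1 + 1) * D = D + (m + 1) * D := by ring
      rw [h3]
      exact this

/-- For fixed good `g`, few parameters `s` satisfy `Nm (x0 s * g) = 1`. -/
theorem few_params {π : Γ →* T} {ρ : Γ →* Matrix ι ι K} {σ : K ≃+* K} {A : Matrix ι ι K} {α : MulAut T}
    (h : SemiInd π ρ σ A α) (hker : ∀ z : Γ, π z = 1 → ∃ c : K, ρ z = c • (1 : Matrix ι ι K))
    (S : Finset K) (hS : ∀ s ∈ S, σ s = s)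
    (x0 : K → Γ) {D : ℕ} (e f : ι → K) (hx0 : PM S D (Matrix.vecMulVec e f) (fun s => ρ (x0 s)))
    {n : ℕ} (hn : 0 < n) (v0 : ι → K) (hv0 : ∃ ψ : ι → K, ψ ⬝ᵥ ((sl σ A)^[n] v0) = 0 ∧ ψ ⬝ᵥ e ≠ 0)
    (g : Γ) (h1 : f ⬝ᵥ (ρ g *ᵥ sl σ A v0) ≠ 0) (h2 : f ⬝ᵥ (ρ g *ᵥ sl σ A e) ≠ 0) :
    Nat.card {s : S // Nm α n (π (x0 s * g)) = 1} ≤ n * D := by
  obtain ⟨m, rfl⟩ : ∃ m, n = m + 1 := ⟨n - 1, by omega⟩
  obtain ⟨c, hc, hPV⟩ := walk_poly ρ σ A S hS x0 e f hx0 g v0 h1 h2 m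
  obtain ⟨ψ, hψ1, hψ2⟩ := hv0
  choose P hP1 hP2 hP3 using hPV
  let Q : K[X] := ∑ b, C (ψ b) * P b
  have hQ1 : Q.natDegree ≤ (m + 1) * D :=
    natDegree_sum_le_of_forall_le _ _ fun b _ => le_trans (natDegree_C_mul_le _ _) (hP1 b)
  have hQ2 : Q.coeff ((m + 1) * D) = c * (ψ ⬝ᵥ e) := by
    simp only [Q, finsetSum_coeff, coeff_C_mul, hP2, dotProduct, Pi.smul_apply, smul_eq_mul, Finset.mul_sum]
    exact Finset.sum_congr rfl fun b _ => by ring
  have hQ0 : Q ≠ 0 := by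
    intro h0
    rw [h0, coeff_zero] at hQ2
    exact mul_ne_zero hc hψ2 hQ2.symm
  have hQ3 : ∀ s ∈ S, ψ ⬝ᵥ ((fun v => ρ (x0 s * g) *ᵥ sl σ A v)^[m + 1] v0) = Q.eval s := by
    intro s hs
    simp only [Q, eval_finsetSum, eval_mul, eval_C, dotProduct]
    exact Finset.sum_congr rfl fun b _ => congrArg (ψ b * ·) (hP3 b s hs)
  refine le_trans ?_ (le_trans Q.card_roots' hQ1)
  classical
  refine le_trans ?_ (Multiset.toFinset_card_le Q.roots)
  rw [← Fintype.card_coe, ← Nat.card_eq_fintype_card]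
  refine Nat.card_le_card_of_injective
    (fun s : {s : S // Nm α (m + 1) (π (x0 s * g)) = 1} => (⟨s.1.1, ?_⟩ : Q.roots.toFinset)) ?_
  · obtain ⟨d, hd⟩ := h.iter_eq_one hker s.2
    rw [Multiset.mem_toFinset, mem_roots hQ0, IsRoot.def, ← hQ3 s.1 s.1.2, hd v0, dotProduct_smul, hψ1, smul_zero]
  · intro s t h
    have h' := congrArg Subtype.val h
    exact Subtype.ext (Subtype.ext h')

/-- existence of the functional `ψ` -/
theorem exists_functional {u e : ι → K} (he : e ≠ 0) (hu : ∀ c : K, e ≠ c • u) : ∃ ψ : ι → K, ψ ⬝ᵥ u = 0 ∧ ψ ⬝ᵥ e ≠ 0 := by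
  classical
  by_cases hu0 : u = 0
  · obtain ⟨i, hi⟩ : ∃ i, e i ≠ 0 := by
      by_contra hcon; push Not at hcon; exact he (funext hcon)
    exact ⟨Pi.single i 1, by simp [hu0], by simpa using hi⟩
  · obtain ⟨i, hi⟩ : ∃ i, u i ≠ 0 := by
      by_contra hcon; push Not at hcon; exact hu0 (funext hcon)
    obtain ⟨j, hj⟩ : ∃ j, e j ≠ (e i / u i) * u j := by
      by_contra hcon; push Not at hcon; exact hu (e i / u i) (funext hcon)
    refine ⟨Pi.single j (u i) - Pi.single i (u j), ?_, ?_⟩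
    · simp [sub_dotProduct, mul_comm]
    · simp only [sub_dotProduct, single_dotProduct, ne_eq]
      intro h
      apply hj
      field_simp
      linear_combination h

/-- **Direct bound** (counting form). -/
theorem direct_bound [Finite Γ] [Finite T] {π : Γ →* T} (hπ : Function.Surjective π) {ρ : Γ →* Matrix ι ι K}
    {σ : K ≃+* K} {A : Matrix ι ι K} (hA : IsUnit A) {α : MulAut T} (h : SemiInd π ρ σ A α)
    (hker : ∀ z : Γ, π z = 1 → ∃ c : K, ρ z = c • (1 : Matrix ι ι K))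
    {n k : ℕ} (hn : 0 < n) (hα : α ^ n = 1) (hk : Nat.card {x : T // α x = x} ≤ k)
    (hι : 2 ≤ Fintype.card ι) (S : Finset K) (hS : ∀ s ∈ S, σ s = s)
    (x0 : K → Γ) {D : ℕ} (e f : ι → K) (he : e ≠ 0) (hx0 : PM S D (Matrix.vecMulVec e f) (fun s => ρ (x0 s)))
    (M : ℕ) (hsp : ∀ w : ι → K, w ≠ 0 → Nat.card {g // f ⬝ᵥ (ρ g *ᵥ w) = 0} * S.card ≤ M * Nat.card Γ) :
    S.card ≤ k * (2 * M + n * D) := by
  classical
  have : Fintype Γ := Fintype.ofFinite Γ
  -- `sl` is bijective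
  have hσinj : Function.Injective (fun v : ι → K => fun i => σ (v i)) := by
    intro v w hvw
    funext i
    exact σ.injective (congrFun hvw i)
  have hσsurj : Function.Surjective (fun v : ι → K => fun i => σ (v i)) := by
    intro v
    refine ⟨fun i => σ.symm (v i), ?_⟩
    funext i; simp
  have hAinj : Function.Injective (fun v : ι → K => A *ᵥ v) := Matrix.mulVec_injective_of_isUnit hA
  have hAsurj : Function.Surjective (fun v : ι → K => A *ᵥ v) := Matrix.mulVec_surjective_iff_isUnit.mpr hA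
  have hslinj : Function.Injective (sl σ A) := hAinj.comp hσinj
  have hslsurj : Function.Surjective (sl σ A) := hAsurj.comp hσsurj
  have hsl0 : sl σ A 0 = 0 := by
    unfold BF.sl
    rw [show (fun i => σ ((0 : ι → K) i)) = 0 from by funext i; simp, Matrix.mulVec_zero]
  have hslne : ∀ v, v ≠ 0 → sl σ A v ≠ 0 := by
    intro v hv h0
    exact hv (hslinj (h0.trans hsl0.symm))
  -- choose v0
  obtain ⟨u0, hu0⟩ : ∃ u0 : ι → K, ∀ c : K, e ≠ c • u0 ∧ u0 ≠ 0 := by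
    have hfin : 1 < finrank K (ι → K) := by rw [finrank_pi]; omega
    obtain ⟨u, hu⟩ : ∃ u : ι → K, u ∉ Submodule.span K {e} := by
      by_contra hcon
      push Not at hcon
      have htop : Submodule.span K {e} = ⊤ := Submodule.eq_top_iff'.mpr hcon
      have := finrank_span_singleton (K := K) he
      rw [htop, finrank_top] at this
      omega
    have hu00 : u ≠ 0 := by
      rintro rfl; exact hu (Submodule.zero_mem _)
    refine ⟨u, fun c => ⟨?_, hu00⟩⟩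
    intro hc
    apply hu
    have hc0 : c ≠ 0 := by
      rintro rfl; rw [zero_smul] at hc; exact he hc
    rw [Submodule.mem_span_singleton]
    exact ⟨c⁻¹, by rw [hc, smul_smul, inv_mul_cancel₀ hc0, one_smul]⟩
  obtain ⟨v0, hv0⟩ := (hslsurj.iterate n) u0
  have hv00 : v0 ≠ 0 := by
    rintro rfl
    have : (sl σ A)^[n] 0 = 0 := Function.iterate_fixed hsl0 n
    exact (hu0 0).2 (hv0.symm.trans this)
  have hψ : ∃ ψ : ι → K, ψ ⬝ᵥ ((sl σ A)^[n] v0) = 0 ∧ ψ ⬝ᵥ e ≠ 0 := by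
    rw [hv0]
    exact exists_functional he fun c => (hu0 c).1
  -- counting
  set Z := Nat.card {g : Γ // Nm α n (π g) = 1} with hZ
  have hcov := card_le_of_surj π hπ α hα hk
  have hb1 := hsp (sl σ A e) (hslne e he)
  have hb2 := hsp (sl σ A v0) (hslne v0 hv00)
  have hdc : Z * S.card = ∑ g : Γ, Nat.card {s : S // Nm α n (π (x0 s * g)) = 1} := by
    have e1 : Nat.card (Σ s : S, {g : Γ // Nm α n (π (x0 s * g)) = 1}) =
        Nat.card (Σ g : Γ, {s : S // Nm α n (π (x0 s * g)) = 1}) :=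
      Nat.card_congr ⟨fun p => ⟨p.2.1, p.1, p.2.2⟩, fun p => ⟨p.2.1, p.1, p.2.2⟩, fun _ => rfl, fun _ => rfl⟩
    rw [Nat.card_sigma, Nat.card_sigma] at e1
    rw [← e1]
    have e2 : ∀ s : S, Nat.card {g : Γ // Nm α n (π (x0 s * g)) = 1} = Z := by
      intro s
      refine Nat.card_congr ((Equiv.mulLeft (x0 s)).subtypeEquiv ?_)
      intro g
      rfl
    rw [Finset.sum_congr rfl fun s _ => e2 s]
    simp [mul_comm]
  let B1 : Γ → Prop := fun g => f ⬝ᵥ (ρ g *ᵥ sl σ A e) = 0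
  let B2 : Γ → Prop := fun g => f ⬝ᵥ (ρ g *ᵥ sl σ A v0) = 0
  have hbd : ∀ g : Γ, Nat.card {s : S // Nm α n (π (x0 s * g)) = 1} ≤
      (if B1 g then S.card else 0) + (if B2 g then S.card else 0) + n * D := by
    intro g
    have hle : Nat.card {s : S // Nm α n (π (x0 s * g)) = 1} ≤ S.card := by
      rw [← Fintype.card_coe, ← Nat.card_eq_fintype_card]
      exact Nat.card_le_card_of_injective (fun s : {s : S // Nm α n (π (x0 s * g)) = 1} => s.1)
        Subtype.val_injective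
    by_cases hB1 : B1 g
    · rw [if_pos hB1]; omega
    · by_cases hB2 : B2 g
      · rw [if_pos hB2]; omega
      · rw [if_neg hB1, if_neg hB2, zero_add, zero_add]
        exact few_params h hker S hS x0 e f hx0 hn v0 hψ g hB2 hB1
  have hsum : ∀ B : Γ → Prop, ∑ g : Γ, (if B g then S.card else 0) = Nat.card {g // B g} * S.card := by
    intro B
    rw [← Finset.sum_filter, Finset.sum_const, smul_eq_mul, Nat.card_eq_fintype_card, Fintype.card_subtype]
  have hpos : 0 < Nat.card Γ := Nat.card_pos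
  have hfinal : Nat.card Γ * S.card ≤ Nat.card Γ * (k * (2 * M + n * D)) :=
    calc Nat.card Γ * S.card ≤ (k * Z) * S.card := Nat.mul_le_mul_right _ hcov
      _ = k * (Z * S.card) := by ring
      _ = k * ∑ g : Γ, Nat.card {s : S // Nm α n (π (x0 s * g)) = 1} := by rw [hdc]
      _ ≤ k * ∑ g : Γ, ((if B1 g then S.card else 0) + (if B2 g then S.card else 0) + n * D) :=
          Nat.mul_le_mul_left _ (Finset.sum_le_sum fun g _ => hbd g)
      _ = k * (Nat.card {g // B1 g} * S.card + Nat.card {g // B2 g} * S.card + Nat.card Γ * (n * D)) := by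
          rw [Finset.sum_add_distrib, Finset.sum_add_distrib, hsum, hsum, Finset.sum_const, smul_eq_mul,
            Finset.card_univ, Nat.card_eq_fintype_card (α := Γ)]
      _ ≤ k * (M * Nat.card Γ + M * Nat.card Γ + Nat.card Γ * (n * D)) :=
          Nat.mul_le_mul_left _ (Nat.add_le_add_right (Nat.add_le_add hb1 hb2) _)
      _ = _ := by ring
  exact Nat.le_of_mul_le_mul_left hfinal hpos

/-- traces are fixed by `σ ^ n` -/
theorem trace_fixed {π : Γ →* T} {ρ : Γ →* Matrix ι ι K} {σ : K ≃+* K} {A : Matrix ι ι K} (hA : IsUnit A)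
    {α : MulAut T} (h : SemiInd π ρ σ A α) (hker : ∀ z : Γ, π z = 1 → ∃ c : K, ρ z = c • (1 : Matrix ι ι K))
    {n : ℕ} (hα : α ^ n = 1) (g : Γ) :
    (σ ^ n) ((ρ g).trace * (ρ g⁻¹).trace) = (ρ g).trace * (ρ g⁻¹).trace := by
  -- `τ ↦ τ(trace)` is invariant step by step
  have hstep : ∀ m : ℕ, ∃ g' : Γ, π g' = (α ^ m) (π g) ∧
      (σ ^ m) (ρ g).trace = (ρ g').trace ∧ (σ ^ m) (ρ g⁻¹).trace = (ρ g'⁻¹).trace := by
    intro m
    induction m with
    | zero => exact ⟨g, by simp, by simp, by simp⟩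
    | succ m ih =>
      obtain ⟨g1, h1, h2, h3⟩ := ih
      obtain ⟨g2, h4, h5⟩ := h g1
      have hAd : IsUnit A.det := (Matrix.isUnit_iff_isUnit_det A).mp hA
      have htr : ∀ (X Y : Matrix ι ι K), Y * A = A * X.map σ → Y.trace = σ X.trace := by
        intro X Y hXY
        have hY : Y = A * X.map σ * A⁻¹ := by
          rw [← hXY, Matrix.mul_assoc, Matrix.mul_nonsing_inv A hAd, Matrix.mul_one]
        rw [hY, Matrix.trace_mul_comm, ← Matrix.mul_assoc, Matrix.nonsing_inv_mul A hAd, Matrix.one_mul]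
        simp [Matrix.trace, map_sum]
      refine ⟨g2, ?_, ?_, ?_⟩
      · rw [h4, h1, pow_succ', MulAut.mul_apply]
      · rw [pow_succ', RingAut.mul_apply, h2, htr _ _ h5]
      · rw [pow_succ', RingAut.mul_apply, h3]
        refine (htr _ _ ?_).symm
        -- ρ g2⁻¹ * A = A * (ρ g1⁻¹).map σ
        have hu : ρ g2⁻¹ * ρ g2 = 1 := by rw [← map_mul, inv_mul_cancel, map_one]
        have hu1 : ρ g1 * ρ g1⁻¹ = 1 := by rw [← map_mul, mul_inv_cancel, map_one]
        have hmap : (ρ g1).map σ * (ρ g1⁻¹).map σ = 1 := by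
          have : (ρ g1 * ρ g1⁻¹).map σ = (1 : Matrix ι ι K).map σ := by rw [hu1]
          rw [Matrix.map_mul, Matrix.map_one _ (map_zero σ) (map_one σ)] at this
          exact this
        calc ρ g2⁻¹ * A = ρ g2⁻¹ * A * ((ρ g1).map σ * (ρ g1⁻¹).map σ) := by rw [hmap, Matrix.mul_one]
          _ = ρ g2⁻¹ * (A * (ρ g1).map σ) * (ρ g1⁻¹).map σ := by simp only [Matrix.mul_assoc]
          _ = ρ g2⁻¹ * (ρ g2 * A) * (ρ g1⁻¹).map σ := by rw [h5]
          _ = (ρ g2⁻¹ * ρ g2) * A * (ρ g1⁻¹).map σ := by simp only [Matrix.mul_assoc]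
          _ = A * (ρ g1⁻¹).map σ := by rw [hu, Matrix.one_mul]
  obtain ⟨g', h1, h2, h3⟩ := hstep n
  rw [map_mul, h2, h3]
  rw [hα, MulAut.one_apply] at h1
  have hz : π (g'⁻¹ * g) = 1 := by rw [map_mul, map_inv, h1, inv_mul_cancel]
  obtain ⟨c, hc⟩ := hker _ hz
  have hg : ρ g = c • ρ g' := by
    have : g = g' * (g'⁻¹ * g) := by group
    rw [this, map_mul, hc, Matrix.mul_smul, Matrix.mul_one]
  have hg' : ρ g'⁻¹ = c • ρ g⁻¹ := by
    have : g'⁻¹ = (g'⁻¹ * g) * g⁻¹ := by group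
    rw [this, map_mul, hc, Matrix.smul_mul, Matrix.one_mul]
  rw [hg, hg', Matrix.trace_smul, Matrix.trace_smul, smul_eq_mul, smul_eq_mul]
  ring

/-- **Classical groups of bounded dimension.** Everything lives on a set `K'` of parameters with `|K| ≤ |K'|²`, and
`S = K' ∩ Fix σ` satisfies `|Fix σ| ≤ 2|S|²`. -/
theorem classical_bound [Finite K] [Finite Γ] [Finite T] {π : Γ →* T} (hπ : Function.Surjective π)
    {ρ : Γ →* Matrix ι ι K} {σ : K ≃+* K} {A : Matrix ι ι K} (hA : IsUnit A) {α : MulAut T}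
    (h : SemiInd π ρ σ A α) (hker : ∀ z : Γ, π z = 1 → ∃ c : K, ρ z = c • (1 : Matrix ι ι K))
    {n k : ℕ} (hn : 0 < n) (hα : α ^ n = 1) (hk : Nat.card {x : T // α x = x} ≤ k)
    (hι : 2 ≤ Fintype.card ι) (K' S : Finset K) (hK' : Nat.card K ≤ K'.card ^ 2) (hSK' : S ⊆ K')
    (hS : ∀ s ∈ S, σ s = s) (hSc : Nat.card {t : K // σ t = t} ≤ 2 * S.card ^ 2) (h0 : (0 : K) ∈ K')
    (x0 : K → Γ) {D D' : ℕ} (hD : 0 < D) (e f : ι → K)
    (hx0 : PM K' D (Matrix.vecMulVec e f) (fun s => ρ (x0 s)))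
    (hx0' : PM K' D ((-1 : K) ^ D • Matrix.vecMulVec e f) (fun s => ρ (x0 s)⁻¹))
    (g1 : Γ) (hg1 : f ⬝ᵥ (ρ g1 *ᵥ e) ≠ 0) (hg1' : f ⬝ᵥ (ρ g1⁻¹ *ᵥ e) ≠ 0)
    {I : Type*} (x : I → K → Γ) (hx00 : ∀ i, x i 0 = 1)
    (hgen : Subgroup.closure {g | ∃ i, ∃ s ∈ K', x i s = g} = ⊤)
    (hpoly : ∀ i a b, ∃ P : K[X], P.natDegree ≤ D' ∧ ∀ s ∈ K', ρ (x i s) a b = P.eval s)
    (hex : ∀ w : ι → K, w ≠ 0 → ∃ g, f ⬝ᵥ (ρ g *ᵥ w) ≠ 0) :
    Nat.card K ≤ (2 * (k * (2 * (Fintype.card ι * D') + n * D)) ^ 2) ^ (2 * n) + (2 * D) ^ 6 := by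
  classical
  have he : e ≠ 0 := by
    rintro rfl
    apply hg1
    simp
  -- the bound on `S`
  have hsp : ∀ w : ι → K, w ≠ 0 →
      Nat.card {g // f ⬝ᵥ (ρ g *ᵥ w) = 0} * S.card ≤ (Fintype.card ι * D') * Nat.card Γ := by
    intro w hw
    refine le_trans (Nat.mul_le_mul_left _ (Finset.card_le_card hSK')) ?_
    exact spread ρ K' h0 x hx00 hgen hpoly f w (hex w hw)
  have hSb := direct_bound hπ hA h hker hn hα hk hι S hS x0 e f he
    (fun b c => by
      obtain ⟨P, h1, h2, h3⟩ := hx0 b c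
      exact ⟨P, h1, h2, fun s hs => h3 s (hSK' hs)⟩) (Fintype.card ι * D') hsp
  -- the trace polynomial
  choose P hP1 hP2 hP3 using hx0
  choose P' hP1' hP2' hP3' using hx0'
  let Q1 : K[X] := ∑ a, ∑ b, P a b * C (ρ g1 b a)
  let Q2 : K[X] := ∑ a, ∑ b, C (ρ g1⁻¹ a b) * P' b a
  have hdeg1 : Q1.natDegree ≤ D := natDegree_sum_le_of_forall_le _ _ fun a _ =>
    natDegree_sum_le_of_forall_le _ _ fun b _ => le_trans (natDegree_mul_C_le _ _) (hP1 a b)
  have hdeg2 : Q2.natDegree ≤ D := natDegree_sum_le_of_forall_le _ _ fun a _ =>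
    natDegree_sum_le_of_forall_le _ _ fun b _ => le_trans (natDegree_C_mul_le _ _) (hP1' b a)
  have hdot : ∀ g : Γ, f ⬝ᵥ (ρ g *ᵥ e) = ∑ a, ∑ b, f a * (ρ g a b * e b) := by
    intro g
    simp only [dotProduct, Matrix.mulVec, Finset.mul_sum]
  have hc1 : Q1.coeff D = f ⬝ᵥ (ρ g1 *ᵥ e) := by
    rw [hdot]
    simp only [Q1, finsetSum_coeff, coeff_mul_C, hP2, Matrix.vecMulVec_apply]
    rw [Finset.sum_comm]
    refine Finset.sum_congr rfl fun b _ => Finset.sum_congr rfl fun a _ => by ring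
  have hc2 : Q2.coeff D = (-1) ^ D * (f ⬝ᵥ (ρ g1⁻¹ *ᵥ e)) := by
    rw [hdot]
    simp only [Q2, finsetSum_coeff, coeff_C_mul, hP2', Matrix.smul_apply, Matrix.vecMulVec_apply, smul_eq_mul,
      Finset.mul_sum]
    refine Finset.sum_congr rfl fun a _ => Finset.sum_congr rfl fun b _ => by ring
  have hcQ : (Q1 * Q2).coeff (D + D) = (f ⬝ᵥ (ρ g1 *ᵥ e)) * ((-1) ^ D * (f ⬝ᵥ (ρ g1⁻¹ *ᵥ e))) := by
    rw [coeff_mul_add_eq_of_natDegree_le hdeg1 hdeg2, hc1, hc2]
  have hcQ0 : (Q1 * Q2).coeff (D + D) ≠ 0 := by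
    rw [hcQ]
    exact mul_ne_zero hg1 (mul_ne_zero (pow_ne_zero _ (neg_ne_zero.mpr one_ne_zero)) hg1')
  have hdQ : (Q1 * Q2).natDegree ≤ 2 * D :=
    le_trans natDegree_mul_le (by omega)
  have hdQ' : 0 < (Q1 * Q2).natDegree := by
    have := le_natDegree_of_ne_zero hcQ0
    omega
  have hval : ∀ t ∈ K', (σ ^ n) ((Q1 * Q2).eval t) = (Q1 * Q2).eval t := by
    intro t ht
    have h1 : Q1.eval t = (ρ (x0 t * g1)).trace := by
      simp only [Q1, eval_finsetSum, eval_mul, eval_C, map_mul, Matrix.trace, Matrix.diag_apply, Matrix.mul_apply]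
      exact Finset.sum_congr rfl fun a _ => Finset.sum_congr rfl fun b _ =>
        congrArg (· * ρ g1 b a) (hP3 a b t ht).symm
    have h2 : Q2.eval t = (ρ (x0 t * g1)⁻¹).trace := by
      simp only [Q2, eval_finsetSum, eval_mul, eval_C, _root_.mul_inv_rev, map_mul, Matrix.trace, Matrix.diag_apply,
        Matrix.mul_apply]
      exact Finset.sum_congr rfl fun a _ => Finset.sum_congr rfl fun b _ =>
        congrArg (ρ g1⁻¹ a b * ·) (hP3' b a t ht).symm
    rw [eval_mul, h1, h2]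
    exact trace_fixed hA h hker hα _
  refine card_field_le σ hn K' hK' (Q1 * Q2) (2 * D) hdQ' hdQ hval _ ?_
  exact le_trans hSc (Nat.mul_le_mul_left _ (Nat.pow_le_pow_left hSb 2))

end direct

end Cfsg.Agent.H331.BF
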