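import Cfsg.Agent.H331.BFDirect
import Cfsg.Agent.H331.BFReveal

/-!
Large dimension: the reveal lemma for `T = Γ / (scalars)` with `α` induced by a semilinear map, and the combination with
the bound for fixed dimension.
-/

set_option autoImplicit false
set_option linter.unusedSectionVars false

namespace Cfsg.Agent.H331.BF

open Module Polynomial Matrix

variable {Γ T : Type*} [Group Γ] [Group T] {K : Type*} [Field K] {ι : Type*} [Fintype ι] [DecidableEq ι]

/-- the orbit of `y` under the elements of `Γ` fixing all vectors of `l` -/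
def vorb (ρ : Γ →* Matrix ι ι K) (l : List (ι → K)) (y : ι → K) : Set (ι → K) :=
  {z | ∃ g : Γ, (∀ v ∈ l, ρ g *ᵥ v = v) ∧ ρ g *ᵥ y = z}

theorem sl_bijective (σ : K ≃+* K) {A : Matrix ι ι K} (hA : IsUnit A) : Function.Bijective (sl σ A) := by
  have hσinj : Function.Injective (fun v : ι → K => fun i => σ (v i)) := by
    intro v w hvw
    funext i
    exact σ.injective (congrFun hvw i)
  have hσsurj : Function.Surjective (fun v : ι → K => fun i => σ (v i)) := by
    intro v
    refine ⟨fun i => σ.symm (v i), ?_⟩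
    funext i; simp
  have hAinj : Function.Injective (fun v : ι → K => A *ᵥ v) := Matrix.mulVec_injective_of_isUnit hA
  have hAsurj : Function.Surjective (fun v : ι → K => A *ᵥ v) := Matrix.mulVec_surjective_iff_isUnit.mpr hA
  exact ⟨hAinj.comp hσinj, hAsurj.comp hσsurj⟩

theorem card_span_list_le [Finite K] (l : List (ι → K)) :
    Nat.card (Submodule.span K {v | v ∈ l}) ≤ Nat.card K ^ l.length := by
  classical
  have h1 : finrank K (Submodule.span K {v | v ∈ l}) ≤ l.length := by
    have : {v | v ∈ l} = (l.toFinset : Set (ι → K)) := by ext; simp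
    rw [this]
    exact le_trans (finrank_span_finset_le_card l.toFinset) (List.toFinset_card_le l)
  rw [Module.natCard_eq_pow_finrank (K := K)]
  exact Nat.pow_le_pow_right Nat.card_pos h1

/-- **Large orbit bound.** If for every list `l` of fewer than `n` vectors and every `y` outside the span of `l` the
elements of `Γ` fixing `l` move `y` to at least `L` places, then `L ≤ k * (n * (2 * q ^ n))`. -/
theorem reveal_bound [Finite K] [Finite Γ] [Finite T] {π : Γ →* T} (hπ : Function.Surjective π)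
    {ρ : Γ →* Matrix ι ι K} {σ : K ≃+* K} {A : Matrix ι ι K} (hA : IsUnit A) {α : MulAut T}
    (h : SemiInd π ρ σ A α) (hker : ∀ z : Γ, π z = 1 → ∃ c : K, ρ z = c • (1 : Matrix ι ι K))
    {n k : ℕ} (hn : 0 < n) (hα : α ^ n = 1) (hk : Nat.card {x : T // α x = x} ≤ k)
    (hι : 0 < Fintype.card ι) (L : ℕ)
    (hL : ∀ (l : List (ι → K)) (y : ι → K), l.length < n → y ∉ Submodule.span K {v | v ∈ l} →
      L ≤ Nat.card (vorb ρ l y)) :
    L ≤ k * (n * (2 * Nat.card K ^ n)) := by
  classical
  let _ : MulAction Γ (ι → K) :=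
    { smul := fun g v => ρ g *ᵥ v
      one_smul := fun v => by change ρ 1 *ᵥ v = v; rw [map_one, Matrix.one_mulVec]
      mul_smul := fun g h v => by change ρ (g * h) *ᵥ v = ρ g *ᵥ (ρ h *ᵥ v); rw [map_mul, Matrix.mulVec_mulVec] }
  have hsmul : ∀ (g : Γ) (v : ι → K), g • v = ρ g *ᵥ v := fun _ _ => rfl
  have hslb := sl_bijective σ hA
  have : Nonempty ι := Fintype.card_pos_iff.mp hι
  obtain ⟨i0⟩ := this
  let e : ι → K := Pi.single i0 1
  have he : e ≠ 0 := by
    intro h0
    have := congrFun h0 i0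
    simp [e] at this
  have hsl0 : sl σ A 0 = 0 := by
    unfold BF.sl
    rw [show (fun i => σ ((0 : ι → K) i)) = 0 from by funext i; simp, Matrix.mulVec_zero]
  let u0 := (sl σ A)^[n] e
  let C : Set (ι → K) := {z | ∃ c : K, z = c • u0}
  have hq : 1 ≤ Nat.card K := Nat.card_pos
  have hr := reveal (Γ := Γ) (sl σ A) (fun l => {z | z ∈ Submodule.span K {v | v ∈ l}}) C n L
    (2 * Nat.card K ^ n) hn ?_ ?_ e ?_
  · -- conclude
    set Z := Nat.card {g : Γ // Nm α n (π g) = 1} with hZ
    have hcov := card_le_of_surj π hπ α hα hk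
    have hZle : Z ≤ Nat.card {g : Γ // (fun x => g • sl σ A x)^[n] e ∈ C} := by
      refine Nat.card_le_card_of_injective (fun g : {g : Γ // Nm α n (π g) = 1} =>
        (⟨g.1, ?_⟩ : {g : Γ // (fun x => g • sl σ A x)^[n] e ∈ C})) ?_
      · obtain ⟨c, hc⟩ := h.iter_eq_one hker g.2
        exact ⟨c, hc e⟩
      · intro s t h
        have h' := congrArg Subtype.val h
        exact Subtype.ext h'
    have hpos : 0 < Nat.card Γ := Nat.card_pos
    have hfinal : Nat.card Γ * L ≤ Nat.card Γ * (k * (n * (2 * Nat.card K ^ n))) :=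
      calc Nat.card Γ * L ≤ (k * Z) * L := Nat.mul_le_mul_right _ hcov
        _ ≤ (k * Nat.card {g : Γ // (fun x => g • sl σ A x)^[n] e ∈ C}) * L :=
            Nat.mul_le_mul_right _ (Nat.mul_le_mul_left _ hZle)
        _ = k * (Nat.card {g : Γ // (fun x => g • sl σ A x)^[n] e ∈ C} * L) := by ring
        _ ≤ k * (n * (2 * Nat.card K ^ n) * Nat.card Γ) := Nat.mul_le_mul_left _ hr
        _ = _ := by ring
    exact Nat.le_of_mul_le_mul_left hfinal hpos
  · intro l y hl hy
    refine le_trans (hL l y hl hy) (le_of_eq ?_)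
    refine Nat.card_congr (Equiv.subtypeEquivRight fun z => ?_)
    rfl
  · intro l
    by_cases hl : l.length < n
    · have hA1 : Nat.card C ≤ Nat.card K := by
        refine Nat.card_le_card_of_surjective (fun c : K => (⟨c • u0, c, rfl⟩ : C)) ?_
        rintro ⟨z, c, rfl⟩
        exact ⟨c, rfl⟩
      have hA2 : Nat.card {z : ι → K // sl σ A z ∈ Submodule.span K {v | v ∈ l}} ≤ Nat.card K ^ l.length := by
        refine le_trans ?_ (card_span_list_le l)
        refine Nat.card_le_card_of_injective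
          (fun z : {z : ι → K // sl σ A z ∈ Submodule.span K {v | v ∈ l}} =>
            (⟨sl σ A z.1, z.2⟩ : Submodule.span K {v | v ∈ l})) ?_
        intro s t h
        have h' := congrArg Subtype.val h
        exact Subtype.ext (hslb.1 h')
      have hA3 : Nat.card {z : ι → K // z ∈ C ∨ (l.length < n ∧ sl σ A z ∈ Submodule.span K {v | v ∈ l})} ≤
          Nat.card C + Nat.card {z : ι → K // sl σ A z ∈ Submodule.span K {v | v ∈ l}} := by
        rw [← Nat.card_sum]
        refine Nat.card_le_card_of_surjective (α := C ⊕ {z : ι → K // sl σ A z ∈ Submodule.span K {v | v ∈ l}})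
          (Sum.elim (fun z => ⟨z.1, Or.inl z.2⟩) (fun z => ⟨z.1, Or.inr ⟨hl, z.2⟩⟩)) ?_
        rintro ⟨z, hz | hz⟩
        · exact ⟨Sum.inl ⟨z, hz⟩, rfl⟩
        · exact ⟨Sum.inr ⟨z, hz.2⟩, rfl⟩
      refine le_trans hA3 ?_
      have h4 : Nat.card K ≤ Nat.card K ^ n := by
        calc Nat.card K = Nat.card K ^ 1 := (pow_one _).symm
          _ ≤ Nat.card K ^ n := Nat.pow_le_pow_right hq hn
      have h5 : Nat.card K ^ l.length ≤ Nat.card K ^ n := Nat.pow_le_pow_right hq hl.le
      omega
    · have hA1 : Nat.card {z : ι → K // z ∈ C ∨ (l.length < n ∧ sl σ A z ∈ Submodule.span K {v | v ∈ l})} ≤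
          Nat.card K := by
        refine Nat.card_le_card_of_surjective (fun c : K => (⟨c • u0, Or.inl ⟨c, rfl⟩⟩ :
          {z : ι → K // z ∈ C ∨ (l.length < n ∧ sl σ A z ∈ Submodule.span K {v | v ∈ l})})) ?_
        rintro ⟨z, ⟨c, rfl⟩ | hz⟩
        · exact ⟨c, rfl⟩
        · exact absurd hz.1 hl
      refine le_trans hA1 ?_
      have h4 : Nat.card K ≤ Nat.card K ^ n := by
        calc Nat.card K = Nat.card K ^ 1 := (pow_one _).symm
          _ ≤ Nat.card K ^ n := Nat.pow_le_pow_right hq hn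
      omega
  · intro hmem
    have h1 : sl σ A e = 0 := by simpa using hmem
    exact he (hslb.1 (h1.trans hsl0.symm))

/-- Combination of the two bounds over a family of classical groups: `N` is the dimension, `q` the size of the field,
`t` the order of the group. -/
theorem family_bound (n k c : ℕ) (F : ℕ → ℕ) :
    ∃ B : ℕ, ∀ N q t : ℕ, 2 ≤ q → t ≤ q ^ (N ^ 2) → q ^ (N - n - c) ≤ k * (n * (2 * q ^ n)) → q ≤ F N → t ≤ B := by
  let N1 := 2 * n + c + k * (n * 2)
  let q1 := ∑ N ∈ Finset.range (N1 + 1), F N + 1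
  refine ⟨q1 ^ (N1 ^ 2), ?_⟩
  intro N q t hq ht hL hF
  have hN : N ≤ N1 := by
    by_contra hcon
    push Not at hcon
    have h1 : N - n - c = (N - 2 * n - c) + n := by omega
    rw [h1, pow_add] at hL
    have h2 : q ^ (N - 2 * n - c) ≤ k * (n * 2) := by
      have h3 : 0 < q ^ n := by positivity
      refine Nat.le_of_mul_le_mul_left ?_ h3
      calc q ^ n * q ^ (N - 2 * n - c) = q ^ (N - 2 * n - c) * q ^ n := by ring
        _ ≤ k * (n * (2 * q ^ n)) := hL
        _ = q ^ n * (k * (n * 2)) := by ring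
    have h4 : N - 2 * n - c < 2 ^ (N - 2 * n - c) := Nat.lt_two_pow_self
    have h5 : 2 ^ (N - 2 * n - c) ≤ q ^ (N - 2 * n - c) := Nat.pow_le_pow_left hq _
    omega
  have hq1 : q ≤ q1 := by
    refine le_trans hF ?_
    have : F N ≤ ∑ N ∈ Finset.range (N1 + 1), F N :=
      Finset.single_le_sum (f := F) (fun _ _ => Nat.zero_le _) (Finset.mem_range.mpr (by omega))
    omega
  calc t ≤ q ^ (N ^ 2) := ht
    _ ≤ q1 ^ (N ^ 2) := Nat.pow_le_pow_left hq1 _
    _ ≤ q1 ^ (N1 ^ 2) := Nat.pow_le_pow_right (by omega) (Nat.pow_le_pow_left hN 2)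

end Cfsg.Agent.H331.BF
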