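import Cfsg.Agent.QTComp.Basic
import Cfsg.Agent.Lib.GenFitting
import Cfsg.Agent.H505.FpfCycMain
import Cfsg.Agent.H659.BFC
import Cfsg.Agent.H331.BFNorm

/-!
Reduction of the general Brauer-Fowler bound to simple groups.
-/

set_option autoImplicit false
set_option linter.unusedSectionVars false

namespace Cfsg.Agent.H331.BF

open Subgroup Cfsg
open Cfsg.Agent.SignalizersComponents.Components

universe u

section orbit

variable {H : Type u} [Group H] [Finite H]

/-- every element of a component commuting with the component is trivial -/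
theorem comp_centerless (hsub : ∀ N : Subgroup H, N.IsSubnormal → Group.IsSolvable N → N = ⊥) {K : Subgroup H}
    (hK : IsComponent K) {z : H} (hz : z ∈ K) (hzc : z ∈ centralizer (K : Set H)) : z = 1 := by
  have h1 : ((center K).map K.subtype).IsSubnormal :=
    IsSubnormal.trans' (inferInstance : (center K).Normal).isSubnormal hK.1
  have h2 : Group.IsSolvable ((center K).map K.subtype) := by
    refine Group.isSolvable_of_comm fun a b => ?_
    obtain ⟨a, a', ha, rfl⟩ := a
    obtain ⟨b, b', hb, rfl⟩ := b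
    apply Subtype.ext
    have h := congrArg (Subtype.val : K → H) (mem_center_iff.mp hb a')
    exact h
  have h3 := hsub _ h1 h2
  have h4 : z ∈ (center K).map K.subtype := by
    refine ⟨⟨z, hz⟩, ?_, rfl⟩
    rw [SetLike.mem_coe, mem_center_iff]
    intro g
    apply Subtype.ext
    exact (mem_centralizer_iff.mp hzc) g.1 g.2
  rw [h3, mem_bot] at h4
  exact h4

theorem comp_simple (hsub : ∀ N : Subgroup H, N.IsSubnormal → Group.IsSolvable N → N = ⊥) {K : Subgroup H}
    (hK : IsComponent K) : IsSimpleGroup K := by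
  have hc : center K = ⊥ := by
    rw [eq_bot_iff]
    intro z hz
    rw [mem_bot]
    apply Subtype.ext
    refine comp_centerless hsub hK z.2 ?_
    rw [mem_centralizer_iff]
    intro g hg
    have := mem_center_iff.mp hz ⟨g, hg⟩
    exact congrArg Subtype.val this
  have h1 := hK.2.2
  exact ((QuotientGroup.quotientMulEquivOfEq hc).trans (QuotientGroup.quotientBot (G := K))).isSimpleGroup_congr.mp h1

theorem comp_not_comm {K : Subgroup H} (hK : IsComponent K) : ¬ IsMulCommutative K :=
  quasisimple_not_isMulCommutative hK.2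

/-- the conjugate by the `j`-th power -/
abbrev cj (y : H) (K : Subgroup H) (j : ℕ) : Subgroup H := K.map (MulAut.conj (y ^ j)).toMonoidHom

theorem cj_comp {y : H} {K : Subgroup H} (hK : IsComponent K) (j : ℕ) : IsComponent (cj y K j) :=
  isComponent_conj _ hK

theorem pow_mem_cj (y : H) {K : Subgroup H} {c : H} (hc : c ∈ K) (j : ℕ) : ((MulAut.conj y) ^ j) c ∈ cj y K j := by
  refine ⟨c, hc, ?_⟩
  rw [← map_pow]
  rfl

/-- data: `m` is the least positive integer with `y ^ m` normalizing `K` -/
structure Per (y : H) (K : Subgroup H) (m : ℕ) : Prop where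
  pos : 0 < m
  eq : cj y K m = K
  ne : ∀ j, 0 < j → j < m → cj y K j ≠ K

theorem exists_per (y : H) (K : Subgroup H) {n : ℕ} (hn : 0 < n) (hy : y ^ n = 1) : ∃ m, m ≤ n ∧ Per y K m := by
  classical
  have hex : ∃ m, 0 < m ∧ cj y K m = K := by
    refine ⟨n, hn, ?_⟩
    unfold cj
    rw [hy, map_one]
    exact Subgroup.map_id K
  refine ⟨Nat.find hex, Nat.find_min' hex ⟨hn, ?_⟩, (Nat.find_spec hex).1, (Nat.find_spec hex).2, ?_⟩
  · unfold cj
    rw [hy, map_one]
    exact Subgroup.map_id K
  · intro j hj hjm h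
    exact Nat.find_min hex hjm ⟨hj, h⟩

/-- the tail of the norm of `c ∈ K` centralizes `K` -/
theorem tail_mem {y : H} {K : Subgroup H} (hK : IsComponent K) {m : ℕ} (hm : Per y K m) {c : H} (hc : c ∈ K) :
    ∀ j, j + 1 ≤ m → MulAut.conj y (Nm (MulAut.conj y) j c) ∈ centralizer (K : Set H) := by
  intro j
  induction j with
  | zero => intro _; rw [Nm_zero, map_one]; exact one_mem _
  | succ j ih =>
    intro hj
    rw [Nm_succ, map_mul]
    refine mul_mem (ih (by omega)) ?_
    have h1 : MulAut.conj y ((MulAut.conj y ^ j) c) = (MulAut.conj y ^ (j + 1)) c := by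
      rw [pow_succ', MulAut.mul_apply]
    rw [h1]
    exact component_le_centralizer_of_ne (cj_comp hK (j + 1)) hK (hm.ne (j + 1) (by omega) (by omega))
      (pow_mem_cj y hc (j + 1))

theorem norm_eq {y : H} {m : ℕ} (hm : 0 < m) (c : H) :
    Nm (MulAut.conj y) m c = c * MulAut.conj y (Nm (MulAut.conj y) (m - 1) c) := by
  obtain ⟨j, rfl⟩ : ∃ j, m = j + 1 := ⟨m - 1, by omega⟩
  rw [Nm_succ']
  rfl

/-- the norm is fixed by `y` -/
theorem norm_mem_centralizer {y : H} {K : Subgroup H} (hK : IsComponent K) {m : ℕ} (hm : Per y K m) {c : H}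
    (hc : c ∈ K) (hfix : (MulAut.conj y ^ m) c = c) : Nm (MulAut.conj y) m c ∈ centralizer ({y} : Set H) := by
  have h1 : Nm (MulAut.conj y) (m + 1) c = c * MulAut.conj y (Nm (MulAut.conj y) m c) := Nm_succ' _ _ _
  have h2 : Nm (MulAut.conj y) (m + 1) c = Nm (MulAut.conj y) m c * c := by rw [Nm_succ, hfix]
  have h3 := norm_eq (y := y) hm.pos c
  have h4 := tail_mem hK hm hc (m - 1) (by have := hm.pos; omega)
  set r := MulAut.conj y (Nm (MulAut.conj y) (m - 1) c) with hr
  have h5 : c * r = r * c := (mem_centralizer_iff.mp h4) c hc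
  have h6 : MulAut.conj y (Nm (MulAut.conj y) m c) = Nm (MulAut.conj y) m c := by
    have h7 : c * MulAut.conj y (Nm (MulAut.conj y) m c) = Nm (MulAut.conj y) m c * c := h1.symm.trans h2
    have h8 : MulAut.conj y (Nm (MulAut.conj y) m c) = c⁻¹ * (Nm (MulAut.conj y) m c * c) := by
      rw [← h7]; group
    rw [h8, h3]
    calc c⁻¹ * (c * r * c) = r * c := by group
      _ = c * r := h5.symm
  rw [mem_centralizer_singleton_iff]
  rw [MulAut.conj_apply] at h6
  calc Nm (MulAut.conj y) m c * y = (y * Nm (MulAut.conj y) m c * y⁻¹) * y := by rw [h6]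
    _ = y * Nm (MulAut.conj y) m c := by group

theorem norm_injOn (hsub : ∀ N : Subgroup H, N.IsSubnormal → Group.IsSolvable N → N = ⊥) {y : H} {K : Subgroup H}
    (hK : IsComponent K) {m : ℕ} (hm : Per y K m) {c c' : H} (hc : c ∈ K) (hc' : c' ∈ K)
    (h : Nm (MulAut.conj y) m c = Nm (MulAut.conj y) m c') : c = c' := by
  rw [norm_eq hm.pos, norm_eq hm.pos] at h
  have h4 := tail_mem hK hm hc (m - 1) (by have := hm.pos; omega)
  have h4' := tail_mem hK hm hc' (m - 1) (by have := hm.pos; omega)
  set r := MulAut.conj y (Nm (MulAut.conj y) (m - 1) c)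
  set r' := MulAut.conj y (Nm (MulAut.conj y) (m - 1) c')
  have h5 : c'⁻¹ * c = r' * r⁻¹ := by
    calc c'⁻¹ * c = c'⁻¹ * (c * r) * r⁻¹ := by group
      _ = c'⁻¹ * (c' * r') * r⁻¹ := by rw [h]
      _ = r' * r⁻¹ := by group
  have h6 : c'⁻¹ * c = 1 := comp_centerless hsub hK (mul_mem (inv_mem hc') hc)
    (by rw [h5]; exact mul_mem h4' (inv_mem h4))
  exact (inv_mul_eq_one.mp h6).symm

/-- the fixed points of `y ^ m` in `K` are at most as many as those of `y` -/
theorem card_fix_le (hsub : ∀ N : Subgroup H, N.IsSubnormal → Group.IsSolvable N → N = ⊥) {y : H} {K : Subgroup H}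
    (hK : IsComponent K) {m : ℕ} (hm : Per y K m) :
    Nat.card {c : K // (MulAut.conj y ^ m) (c : H) = c} ≤ Nat.card (centralizer ({y} : Set H)) := by
  refine Nat.card_le_card_of_injective (fun c : {c : K // (MulAut.conj y ^ m) (c : H) = c} =>
    (⟨Nm (MulAut.conj y) m c.1.1, norm_mem_centralizer hK hm c.1.2 c.2⟩ : centralizer ({y} : Set H))) ?_
  intro c c' h
  have h1 := congrArg Subtype.val h
  exact Subtype.ext (Subtype.ext (norm_injOn hsub hK hm c.1.2 c'.1.2 h1))

theorem mem_normalizer_of_per {y : H} {K : Subgroup H} {m : ℕ} (hm : Per y K m) :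
    y ^ m ∈ normalizer (K : Set H) := by
  rw [mem_normalizer_iff]
  intro h
  constructor
  · intro hh
    have : y ^ m * h * (y ^ m)⁻¹ ∈ cj y K m := ⟨h, hh, rfl⟩
    rwa [hm.eq] at this
  · intro hh
    have h1 : y ^ m * h * (y ^ m)⁻¹ ∈ cj y K m := by rw [hm.eq]; exact hh
    obtain ⟨h', hh', he⟩ := h1
    have : h' = h := (MulAut.conj (y ^ m)).injective he
    rw [← this]; exact hh'

/-- the automorphism of `K` induced by `y ^ m` -/
def indAut {y : H} {K : Subgroup H} {m : ℕ} (hm : Per y K m) : MulAut K :=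
  K.normalizerMonoidHom ⟨y ^ m, mem_normalizer_of_per hm⟩

theorem indAut_apply {y : H} {K : Subgroup H} {m : ℕ} (hm : Per y K m) (c : K) :
    ((indAut hm c : K) : H) = (MulAut.conj y ^ m) (c : H) := by
  rw [← map_pow]
  rfl

theorem indAut_pow {y : H} {K : Subgroup H} {m n : ℕ} (hm : Per y K m) (hy : y ^ n = 1) : indAut hm ^ n = 1 := by
  unfold indAut
  rw [← map_pow]
  have : (⟨y ^ m, mem_normalizer_of_per hm⟩ : normalizer (K : Set H)) ^ n = 1 := by
    apply Subtype.ext
    change (y ^ m) ^ n = 1
    rw [← pow_mul, mul_comm, pow_mul, hy, one_pow]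
  rw [this, map_one]

theorem card_fix_indAut (hsub : ∀ N : Subgroup H, N.IsSubnormal → Group.IsSolvable N → N = ⊥) {y : H} {K : Subgroup H}
    (hK : IsComponent K) {m : ℕ} (hm : Per y K m) :
    Nat.card {c : K // indAut hm c = c} ≤ Nat.card (centralizer ({y} : Set H)) := by
  refine le_trans (le_of_eq ?_) (card_fix_le hsub hK hm)
  refine Nat.card_congr (Equiv.subtypeEquivRight fun c => ?_)
  rw [← indAut_apply hm c]
  exact Subtype.ext_iff

/-- fixed-point-free automorphism theorem for components -/
theorem exists_fixed {K : Type u} [Group K] [Finite K] (hK : ¬ Group.IsSolvable K) (β : MulAut K) :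
    ∃ c : K, c ≠ 1 ∧ β c = c := by
  by_contra hcon
  push Not at hcon
  apply hK
  have hfin : Finite (MulAut K) := Finite.of_injective (fun f : MulAut K => (f : K → K)) DFunLike.coe_injective
  refine Cfsg.Agent.H505.FpfCyc.solvable (A := Subgroup.zpowers β) (φ := (Subgroup.zpowers β).subtype) (K := ⊥)
    ⟨inferInstance, ?_, ⟨⟨β, mem_zpowers β⟩, ?_⟩, ?_⟩
  · rw [Subgroup.card_bot]; exact Nat.coprime_one_left _
  · intro a
    refine (le_sup_right : _ ≤ (⊥ : Subgroup (Subgroup.zpowers β)) ⊔ zpowers ⟨β, mem_zpowers β⟩) ?_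
    obtain ⟨j, hj⟩ := mem_zpowers_iff.mp a.2
    exact mem_zpowers_iff.mpr ⟨j, Subtype.ext (by simpa using hj)⟩
  · intro g hg
    by_contra hg1
    exact hcon g hg1 (hg ⟨β, mem_zpowers β⟩)

end orbit

section count

variable {H : Type u} [Group H] [Finite H]

/-- number of components -/
theorem card_comp_le (hsub : ∀ N : Subgroup H, N.IsSubnormal → Group.IsSolvable N → N = ⊥) {y : H} {n : ℕ}
    (hn : 0 < n) (hy : y ^ n = 1) :
    Nat.card {K : Subgroup H // IsComponent K} ≤ n * Nat.card (centralizer ({y} : Set H)) := by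
  classical
  -- choose a period and a fixed element for every component
  have hch : ∀ K : {K : Subgroup H // IsComponent K}, ∃ (m : ℕ) (_ : Per y K.1 m) (c : H), m ≤ n ∧ c ∈ K.1 ∧ c ≠ 1 ∧
      (MulAut.conj y ^ m) c = c := by
    rintro ⟨K, hK⟩
    obtain ⟨m, hmn, hm⟩ := exists_per y K hn hy
    obtain ⟨c, hc1, hc2⟩ := exists_fixed (quasisimple_not_isSolvable hK.2) (indAut hm)
    refine ⟨m, hm, c, hmn, c.2, fun h => hc1 (Subtype.ext h), ?_⟩
    rw [← indAut_apply hm c, hc2]
  choose m hm c hmn hcK hc1 hfix using hch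
  let w : {K : Subgroup H // IsComponent K} → (centralizer ({y} : Set H)) := fun K =>
    ⟨Nm (MulAut.conj y) (m K) (c K), norm_mem_centralizer K.2 (hm K) (hcK K) (hfix K)⟩
  -- fibres
  have hfib : ∀ K L : {K : Subgroup H // IsComponent K}, w K = w L → ∃ j < n, L.1 = cj y K.1 j := by
    intro K L h
    by_contra hcon
    push Not at hcon
    have h1 : Nm (MulAut.conj y) (m K) (c K) = Nm (MulAut.conj y) (m L) (c L) := congrArg Subtype.val h
    -- w K centralizes L
    have h2 : ∀ j, j ≤ m K → Nm (MulAut.conj y) j (c K) ∈ centralizer (L.1 : Set H) := by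
      intro j
      induction j with
      | zero => intro _; rw [Nm_zero]; exact one_mem _
      | succ j ih =>
        intro hj
        rw [Nm_succ]
        refine mul_mem (ih (by omega)) ?_
        have hne : cj y K.1 j ≠ L.1 := fun h => hcon j (by have := hmn K; omega) h.symm
        exact component_le_centralizer_of_ne (cj_comp K.2 j) L.2 hne (pow_mem_cj y (hcK K) j)
    have h3 := h2 (m K) le_rfl
    rw [h1, norm_eq (hm L).pos] at h3
    have h4 := tail_mem L.2 (hm L) (hcK L) (m L - 1) (by have := (hm L).pos; omega)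
    have h5 : c L ∈ centralizer (L.1 : Set H) := by
      have := mul_mem h3 (inv_mem h4)
      rwa [mul_inv_cancel_right] at this
    exact hc1 L (comp_centerless hsub L.2 (hcK L) h5)
  have : Fintype {K : Subgroup H // IsComponent K} := Fintype.ofFinite _
  have : Fintype (centralizer ({y} : Set H)) := Fintype.ofFinite _
  rw [Nat.card_eq_fintype_card, Nat.card_eq_fintype_card, ← Finset.card_univ, ← Finset.card_univ]
  refine Finset.card_le_mul_card_image_of_maps_to (f := w) (fun _ _ => Finset.mem_univ _) n ?_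
  intro b _
  by_cases hb : ∃ K, w K = b
  · obtain ⟨K, rfl⟩ := hb
    have hsub' : Finset.filter (fun L => w L = w K) Finset.univ ⊆
        Finset.univ.filter (fun L : {K : Subgroup H // IsComponent K} => ∃ j < n, L.1 = cj y K.1 j) := by
      intro L hL
      rw [Finset.mem_filter] at hL ⊢
      exact ⟨Finset.mem_univ _, hfib K L hL.2.symm⟩
    refine le_trans (Finset.card_le_card hsub') ?_
    have h6 : (Finset.univ.filter (fun L : {K : Subgroup H // IsComponent K} => ∃ j < n, L.1 = cj y K.1 j)).card
        ≤ ((Finset.range n).image (fun j => cj y K.1 j)).card := by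
      refine Finset.card_le_card_of_injOn (fun L => L.1) ?_ ?_
      · intro L hL
        rw [Finset.mem_coe, Finset.mem_filter] at hL
        obtain ⟨j, hj, hLj⟩ := hL.2
        exact Finset.mem_coe.mpr (Finset.mem_image.mpr ⟨j, Finset.mem_range.mpr hj, hLj.symm⟩)
      · intro L _ L' _ h
        exact Subtype.ext h
    refine le_trans h6 (le_trans Finset.card_image_le ?_)
    rw [Finset.card_range]
  · push Not at hb
    rw [Finset.filter_false_of_mem (fun K _ => hb K), Finset.card_empty]
    exact Nat.zero_le _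

/-- the join of pairwise commuting subgroups -/
theorem card_sup_le {A X : Subgroup H} (h : A ≤ centralizer (X : Set H)) :
    Nat.card (A ⊔ X : Subgroup H) ≤ Nat.card A * Nat.card X := by
  have hcomm : ∀ (a : A) (x : X), Commute (A.subtype a) (X.subtype x) := by
    intro a x
    exact ((mem_centralizer_iff.mp (h a.2)) x.1 x.2).symm
  have hr : (MonoidHom.noncommCoprod A.subtype X.subtype hcomm).range = A ⊔ X := by
    rw [MonoidHom.noncommCoprod_range, range_subtype, range_subtype]
  rw [← hr, ← Nat.card_prod]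
  exact Nat.card_le_card_of_surjective _ (MonoidHom.rangeRestrict_surjective _)

theorem card_layer_le {B : ℕ} (_hB : 0 < B) (hcard : ∀ K : Subgroup H, IsComponent K → Nat.card K ≤ B) :
    Nat.card (layer H) ≤ B ^ Nat.card {K : Subgroup H // IsComponent K} := by
  classical
  have : Fintype {K : Subgroup H // IsComponent K} := Fintype.ofFinite _
  have hs : ∀ s : Finset {K : Subgroup H // IsComponent K}, Nat.card (s.sup (fun K => K.1) : Subgroup H) ≤ B ^ s.card := by
    intro s
    induction s using Finset.induction_on with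
    | empty => simp
    | insert K s hK ih =>
      rw [Finset.sup_insert, Finset.card_insert_of_notMem hK, pow_succ, mul_comm]
      refine le_trans (card_sup_le ?_) (Nat.mul_le_mul (hcard K.1 K.2) ih)
      rw [le_centralizer_iff]
      refine Finset.sup_le fun L hL => ?_
      refine component_le_centralizer_of_ne L.2 K.2 ?_
      intro h
      have : L = K := Subtype.ext h
      rw [this] at hL
      exact hK hL
  have h1 : layer H = (Finset.univ : Finset {K : Subgroup H // IsComponent K}).sup (fun K => K.1) := by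
    apply le_antisymm
    · rw [layer_le_iff]
      intro K hK
      exact Finset.le_sup (f := fun K : {K : Subgroup H // IsComponent K} => K.1) (Finset.mem_univ ⟨K, hK⟩)
    · exact Finset.sup_le fun K _ => component_le_layer K.2
  rw [h1, Nat.card_eq_fintype_card (α := {K : Subgroup H // IsComponent K}), ← Finset.card_univ]
  exact hs _

theorem centralizer_layer_eq_bot (hsub : ∀ N : Subgroup H, N.IsSubnormal → Group.IsSolvable N → N = ⊥) :
    centralizer (layer H : Set H) = ⊥ := by
  have hF : fittingSubgroup H = ⊥ := by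
    have := Lib.Cores.fittingSubgroup_isNilpotent (G := H)
    exact hsub _ (Lib.Cores.fittingSubgroup_normal).isSubnormal inferInstance
  have hFs : generalizedFittingSubgroup H = layer H := by
    rw [Lib.GenFitting.genFitting_def, hF, sup_bot_eq]
  have h1 := Lib.GenFitting.centralizer_genFitting_le (G := H)
  rw [hFs] at h1
  have hln := layer_normal (G := H)
  have hcn : (centralizer (layer H : Set H)).Normal := inferInstance
  refine hsub _ hcn.isSubnormal ?_
  exact Group.isSolvable_of_comm fun a b => Subtype.ext ((mem_centralizer_iff.1 b.2) a (h1 a.2))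

theorem card_le_factorial (hsub : ∀ N : Subgroup H, N.IsSubnormal → Group.IsSolvable N → N = ⊥) :
    Nat.card H ≤ (Nat.card (layer H)).factorial := by
  have hln := layer_normal (G := H)
  let f : H →* MulAut (layer H) := MulAut.conjNormal
  have hinj : Function.Injective f := by
    rw [injective_iff_map_eq_one]
    intro g hg
    have : g ∈ centralizer (layer H : Set H) := by
      rw [mem_centralizer_iff]
      intro x hx
      have h1 : (f g) ⟨x, hx⟩ = ⟨x, hx⟩ := by rw [hg]; rfl
      have h2 := congrArg Subtype.val h1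
      rw [MulAut.conjNormal_apply] at h2
      change g * x * g⁻¹ = x at h2
      rw [mul_inv_eq_iff_eq_mul] at h2
      exact h2.symm
    rw [centralizer_layer_eq_bot hsub, mem_bot] at this
    exact this
  have hinj2 : Function.Injective (fun g : H => (f g).toEquiv) := by
    intro a b hab
    exact hinj (MulEquiv.toEquiv_injective hab)
  refine le_trans (Nat.card_le_card_of_injective _ hinj2) ?_
  rw [Nat.card_perm]

/-- **Bound for groups without solvable normal subgroups.** -/
theorem card_le_of_key {n k B : ℕ} (hn : 0 < n) (hB : 0 < B)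
    (key : ∀ (T : Type u) [Group T] [Finite T] [IsSimpleGroup T], ¬ IsMulCommutative T → Bdd n k B T)
    (hsub : ∀ N : Subgroup H, N.IsSubnormal → Group.IsSolvable N → N = ⊥) {y : H} (hy : y ^ n = 1)
    (hk : Nat.card (centralizer ({y} : Set H)) ≤ k) : Nat.card H ≤ (B ^ (n * k)).factorial := by
  have h1 : ∀ K : Subgroup H, IsComponent K → Nat.card K ≤ B := by
    intro K hK
    have := comp_simple hsub hK
    obtain ⟨m, hmn, hm⟩ := exists_per y K hn hy
    exact key K (comp_not_comm hK) (indAut hm) (indAut_pow hm hy) ((card_fix_indAut hsub hK hm).trans hk)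
  refine le_trans (card_le_factorial hsub) (Nat.factorial_le ?_)
  refine le_trans (card_layer_le hB h1) (Nat.pow_le_pow_right hB ?_)
  exact le_trans (card_comp_le hsub hn hy) (Nat.mul_le_mul_left _ hk)

end count

/-- **Reduction** of the general Brauer-Fowler bound to simple groups. -/
theorem reduction (n k : ℕ)
    (key : 0 < n → ∃ B : ℕ, ∀ (T : Type u) [Group T] [Finite T] [IsSimpleGroup T], ¬ IsMulCommutative T → Bdd n k B T) :
    ∃ f : ℕ, 0 < f ∧ ∀ (G : Type u) [Group G] [Finite G],
      (∃ x : G, orderOf x = n ∧ Nat.card ↥(Subgroup.centralizer ({x} : Set G)) ≤ k) →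
        ∃ N : Subgroup G, N.Normal ∧ Group.IsSolvable ↥N ∧ N.index ∣ f := by
  rcases Nat.eq_zero_or_pos n with rfl | hn
  · refine ⟨1, one_pos, ?_⟩
    rintro G _ _ ⟨x, hx, _⟩
    exact absurd hx (orderOf_pos x).ne'
  · obtain ⟨B, hB⟩ := key hn
    refine ⟨((max B 1) ^ (n * k)).factorial.factorial, Nat.factorial_pos _, ?_⟩
    rintro G _ _ ⟨x, hx, hxk⟩
    obtain ⟨R, hR⟩ := Cfsg.Agent.QTComp.Basic.exists_isRad G
    have hRn := hR.normal
    refine ⟨R, hRn, hR.solv, ?_⟩
    have h1 : Nat.card (G ⧸ R) ≤ ((max B 1) ^ (n * k)).factorial := by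
      refine card_le_of_key (y := (x : G ⧸ R)) hn (by omega) ?_ (fun N hN hs => hR.eq_bot_of_subnormal hN hs) ?_ ?_
      · intro T _ _ _ hT
        exact (hB T hT).mono (le_max_left _ _)
      · rw [← QuotientGroup.mk_pow, ← hx, pow_orderOf_eq_one, QuotientGroup.mk_one]
      · exact (Cfsg.Agent.H659.BFC.card_centralizer_quotient_le R x).trans hxk
    have h2 : R.index = Nat.card (G ⧸ R) := rfl
    rw [h2]
    exact Nat.dvd_factorial Nat.card_pos h1

end Cfsg.Agent.H331.BF
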