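import Cfsg.Agent.H331.BFLarge

/-!
Semilinear automorphisms: closure under products, and the transfer from a generating set of the automorphism group.
-/

set_option autoImplicit false
set_option linter.unusedSectionVars false

namespace Cfsg.Agent.H331.BF

open Matrix

variable {Γ T : Type*} [Group Γ] [Group T] {K : Type*} [Field K] {ι : Type*} [Fintype ι] [DecidableEq ι]

theorem SemiInd.one (π : Γ →* T) (ρ : Γ →* Matrix ι ι K) : SemiInd π ρ (1 : K ≃+* K) 1 1 := by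
  intro g
  refine ⟨g, rfl, ?_⟩
  rw [Matrix.mul_one, Matrix.one_mul]
  ext i j
  rfl

theorem SemiInd.mul {π : Γ →* T} {ρ : Γ →* Matrix ι ι K} {σ σ' : K ≃+* K} {A A' : Matrix ι ι K}
    {α α' : MulAut T} (h : SemiInd π ρ σ A α) (h' : SemiInd π ρ σ' A' α') :
    SemiInd π ρ (σ * σ') (A * A'.map σ) (α * α') := by
  intro g
  obtain ⟨g1, h1, h2⟩ := h' g
  obtain ⟨g2, h3, h4⟩ := h g1
  refine ⟨g2, by rw [h3, h1, MulAut.mul_apply], ?_⟩
  have h5 : (ρ g).map (σ * σ') = ((ρ g).map σ').map σ := by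
    ext i j; rfl
  calc ρ g2 * (A * A'.map σ) = (ρ g2 * A) * A'.map σ := (Matrix.mul_assoc _ _ _).symm
    _ = A * ((ρ g1).map σ * A'.map σ) := by rw [h4, Matrix.mul_assoc]
    _ = A * (ρ g1 * A').map σ := by rw [Matrix.map_mul]
    _ = A * (A' * (ρ g).map σ').map σ := by rw [h2]
    _ = A * (A'.map σ * ((ρ g).map σ').map σ) := by rw [Matrix.map_mul]
    _ = A * A'.map σ * (ρ g).map (σ * σ') := by rw [h5, Matrix.mul_assoc]

theorem isUnit_map {σ : K ≃+* K} {A : Matrix ι ι K} (hA : IsUnit A) : IsUnit (A.map σ) := by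
  have := hA.map (σ : K →+* K).mapMatrix
  exact this

/-- If the automorphisms with a property `P` generate `MulAut T` and are semilinear, all automorphisms are. -/
theorem exists_semiInd [Finite T] {π : Γ →* T} {ρ : Γ →* Matrix ι ι K} (P : MulAut T → Prop)
    (hP : ∀ β, P β → ∃ (σ : K ≃+* K) (A : Matrix ι ι K), IsUnit A ∧ SemiInd π ρ σ A β)
    (hcl : Subgroup.closure {β | P β} = ⊤) (α : MulAut T) :
    ∃ (σ : K ≃+* K) (A : Matrix ι ι K), IsUnit A ∧ SemiInd π ρ σ A α := by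
  have hfin : Finite (MulAut T) := Finite.of_injective (fun f : MulAut T => (f : T → T)) DFunLike.coe_injective
  refine gen_induction {β | P β} hcl
    (fun α => ∃ (σ : K ≃+* K) (A : Matrix ι ι K), IsUnit A ∧ SemiInd π ρ σ A α) ?_ ?_ ?_ α
  · exact ⟨1, 1, isUnit_one, SemiInd.one π ρ⟩
  · rintro a b ⟨σ, A, hA, h⟩ ⟨σ', A', hA', h'⟩
    exact ⟨σ * σ', A * A'.map σ, hA.mul (isUnit_map hA'), h.mul h'⟩
  · intro β hβ
    exact hP β hβ

/-- `α * conj (π g)`-free form: changing `A` by an element of `Γ`. -/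
theorem SemiInd.conj {π : Γ →* T} {ρ : Γ →* Matrix ι ι K} {σ : K ≃+* K} {A : Matrix ι ι K}
    {α : MulAut T} (h : SemiInd π ρ σ A α) (g : Γ) :
    SemiInd π ρ σ (ρ g * A) (MulAut.conj (π g) * α) := by
  intro x
  obtain ⟨x', h1, h2⟩ := h x
  refine ⟨g * x' * g⁻¹, ?_, ?_⟩
  · rw [map_mul, map_mul, map_inv, h1, MulAut.mul_apply, MulAut.conj_apply]
  · have h3 : ρ g⁻¹ * ρ g = 1 := by rw [← map_mul, inv_mul_cancel, map_one]
    calc ρ (g * x' * g⁻¹) * (ρ g * A) = ρ g * ρ x' * (ρ g⁻¹ * ρ g) * A := by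
          rw [map_mul, map_mul]; simp only [Matrix.mul_assoc]
      _ = ρ g * (ρ x' * A) := by rw [h3, Matrix.mul_one, Matrix.mul_assoc]
      _ = ρ g * A * (ρ x).map σ := by rw [h2, Matrix.mul_assoc]

end Cfsg.Agent.H331.BF
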