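import Mathlib
import Cfsg.Agent.GH.Rank
import Cfsg.Agent.Lib.NormalAbelian

/-!
# Finite 2-groups which are products of two cyclic subgroups

`P = ⟨x⟩⟨y⟩` a finite 2-group: a subgroup of index 2 containing `x` is metacyclic (`main`), hence the sectional
2-rank of `P` is at most 3 (`sectional`).
-/

set_option autoImplicit false

namespace Cfsg.Agent.H331.Bicyclic

open Subgroup

/-- Metacyclic groups. -/
def Meta (M : Type*) [Group M] : Prop :=
  ∃ a b : M, (zpowers a).Normal ∧ closure {a, b} = ⊤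

section tools

variable {G : Type*} [Group G]

theorem mem_zpowers_of_odd (hG : IsPGroup 2 G) (x : G) {α : ℤ} (hα : Odd α) :
    x ∈ zpowers (x ^ α) := by
  obtain ⟨k, hk⟩ := hG x
  have hco : IsCoprime α ((2 : ℤ) ^ k) := by
    apply IsCoprime.pow_right
    rw [Int.isCoprime_iff_gcd_eq_one, Int.gcd_comm]
    have : Int.gcd 2 α = 1 := by
      rw [← Int.isCoprime_iff_gcd_eq_one]
      exact (Int.prime_two.coprime_iff_not_dvd).2 (by
        rw [← even_iff_two_dvd, Int.not_even_iff_odd]; exact hα)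
    exact this
  obtain ⟨u, v, huv⟩ := hco
  refine ⟨u, ?_⟩
  change (x ^ α) ^ u = x
  have h1 : x ^ ((2 : ℤ) ^ k) = 1 := by
    have : ((2 : ℤ) ^ k) = ((2 ^ k : ℕ) : ℤ) := by push_cast; rfl
    rw [this, zpow_natCast, hk]
  calc (x ^ α) ^ u = x ^ (u * α) := by rw [← zpow_mul, mul_comm]
    _ = x ^ (u * α) * (x ^ ((2 : ℤ) ^ k)) ^ v := by rw [h1, one_zpow, mul_one]
    _ = x ^ (u * α + v * 2 ^ k) := by rw [← zpow_mul, ← zpow_add, mul_comm v]
    _ = x := by rw [huv, zpow_one]

theorem sq_eq_one_of_conj (hG : IsPGroup 2 G) (x g : G) (h : g * x ^ 2 * g⁻¹ ∈ zpowers (x ^ 4)) :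
    x ^ 2 = 1 := by
  obtain ⟨t, ht⟩ := h
  change (x ^ 4) ^ t = g * x ^ 2 * g⁻¹ at ht
  by_contra hne
  obtain ⟨k, hk⟩ := IsPGroup.iff_orderOf.1 hG (x ^ 2)
  have hk0 : k ≠ 0 := by
    rintro rfl
    rw [pow_zero, orderOf_eq_one_iff] at hk
    exact hne hk
  obtain ⟨m, rfl⟩ := Nat.exists_eq_succ_of_ne_zero hk0
  have h1 : ((x ^ 4) ^ t) ^ (2 ^ m) = 1 := by
    have h2 : (x ^ 4) ^ (2 ^ m) = 1 := by
      have h3 : (x ^ 4) = (x ^ 2) ^ 2 := by rw [← pow_mul]
      rw [h3, ← pow_mul]
      have h4 : 2 * 2 ^ m = 2 ^ (m + 1) := by rw [pow_succ, mul_comm]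
      rw [h4, ← hk, pow_orderOf_eq_one]
    rw [← zpow_natCast, ← zpow_mul, mul_comm, zpow_mul, zpow_natCast, h2, one_zpow]
  rw [ht, conj_pow] at h1
  have h5 : (x ^ 2) ^ (2 ^ m) = 1 := by
    have := mul_inv_eq_one.1 h1
    exact mul_eq_left.1 this
  have h6 := orderOf_dvd_of_pow_eq_one h5
  rw [hk] at h6
  have h7 := Nat.le_of_dvd (by positivity) h6
  have h8 : (2 : ℕ) ^ m < 2 ^ (m + 1) := Nat.pow_lt_pow_right (by norm_num) (Nat.lt_succ_self m)
  omega

theorem zpow_four' (w : G) : w ^ (4 : ℤ) = (w * w) * (w * w) := by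
  have : (4 : ℤ) = 1 + 1 + (1 + 1) := by norm_num
  rw [this, zpow_add, zpow_add, zpow_one]

theorem mul_zpow_self_two {z : G} (hz : z * z = 1) {m : ℤ} : 1 = z ^ m * z ^ m := by
  rw [← (Commute.refl z).mul_zpow, hz, one_zpow]

theorem two_part (n : ℕ) : ∀ i j : ℤ, i.natAbs + j.natAbs = n → (i ≠ 0 ∨ j ≠ 0) →
    ∃ (e : ℕ) (α β : ℤ), i = 2 ^ e * α ∧ j = 2 ^ e * β ∧ (Odd α ∨ Odd β) := by
  induction n using Nat.strong_induction_on with
  | _ n ih =>
    intro i j hn h0
    by_cases h : Odd i ∨ Odd j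
    · exact ⟨0, i, j, by simp, by simp, h⟩
    · push Not at h
      rw [Int.not_odd_iff_even, Int.not_odd_iff_even] at h
      obtain ⟨⟨i', rfl⟩, ⟨j', rfl⟩⟩ := h
      obtain ⟨e, α, β, h1, h2, h3⟩ := ih (i'.natAbs + j'.natAbs) (by omega) i' j' rfl (by omega)
      refine ⟨e + 1, α, β, ?_, ?_, h3⟩
      · rw [pow_succ]; linarith
      · rw [pow_succ]; linarith

/-- Commutators of a closure of elements normalizing `C` with commutators in `C`. -/
theorem comm_closure (C : Subgroup G) (S : Set G) (hn : ∀ s ∈ S, s ∈ normalizer (C : Set G))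
    (hc : ∀ s ∈ S, ∀ t ∈ S, s * t * s⁻¹ * t⁻¹ ∈ C) :
    ∀ g ∈ closure S, ∀ h ∈ closure S, g * h * g⁻¹ * h⁻¹ ∈ C := by
  have hcl : closure S ≤ normalizer (C : Set G) := (closure_le _).2 hn
  have key : ∀ h : G, h ∈ normalizer (C : Set G) → (∀ s ∈ S, s * h * s⁻¹ * h⁻¹ ∈ C) →
      ∀ g ∈ closure S, g * h * g⁻¹ * h⁻¹ ∈ C := by
    intro h hh hs g hg
    induction hg using closure_induction with
    | mem x hx => exact hs x hx
    | one => simp
    | mul x y hx hy hx1 hy1 =>
      have h1 := (mem_normalizer_iff.1 (hcl hx) _).1 hy1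
      have h2 := C.mul_mem h1 hx1
      have e : x * (y * h * y⁻¹ * h⁻¹) * x⁻¹ * (x * h * x⁻¹ * h⁻¹) = x * y * h * (x * y)⁻¹ * h⁻¹ := by
        group
      rwa [e] at h2
    | inv x hx hx1 =>
      have h1 := (mem_normalizer_iff.1 ((normalizer (C : Set G)).inv_mem (hcl hx)) _).1 (C.inv_mem hx1)
      have e : x⁻¹ * (x * h * x⁻¹ * h⁻¹)⁻¹ * x⁻¹⁻¹ = x⁻¹ * h * x⁻¹⁻¹ * h⁻¹ := by group
      rwa [e] at h1
  have key2 : ∀ s ∈ S, ∀ g ∈ closure S, g * s * g⁻¹ * s⁻¹ ∈ C := fun s hs g hg =>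
    key s (hn s hs) (fun t ht => hc t ht s hs) g hg
  intro g hg h hh
  have h1 := key g (hcl hg) (fun s hs => by
    have h2 := C.inv_mem (key2 s hs g hg)
    have e : (g * s * g⁻¹ * s⁻¹)⁻¹ = s * g * s⁻¹ * g⁻¹ := by group
    rwa [e] at h2) h hh
  have h2 := C.inv_mem h1
  have e : (h * g * h⁻¹ * g⁻¹)⁻¹ = g * h * g⁻¹ * h⁻¹ := by group
  rwa [e] at h2

end tools

section base

variable {P : Type*} [Group P]

/-- Criterion for `Meta L` inside `P`. -/
theorem meta_of {L : Subgroup P} {a b : P} (ha : a ∈ L) (hb : b ∈ L)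
    (hn : ∀ g ∈ L, g * a * g⁻¹ ∈ zpowers a) (hL : L ≤ closure {a, b}) : Meta L := by
  refine ⟨⟨a, ha⟩, ⟨b, hb⟩, ?_, ?_⟩
  · constructor
    rintro _ ⟨k, rfl⟩ g
    obtain ⟨j, hj⟩ := hn g g.2
    refine ⟨j * k, ?_⟩
    apply Subtype.ext
    change (((⟨a, ha⟩ : L) ^ (j * k) : L) : P) = (g : P) * ((⟨a, ha⟩ : L) ^ k : L) * (g : P)⁻¹
    push_cast
    change a ^ j = _ at hj
    rw [← conj_zpow, ← hj, ← zpow_mul]
  · rw [eq_top_iff]
    rintro ⟨g, hg⟩ -
    have h1 : (closure {(⟨a, ha⟩ : L), ⟨b, hb⟩}).map L.subtype = closure {a, b} := by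
      rw [MonoidHom.map_closure]
      congr 1
      rw [Set.image_pair]
      rfl
    have h2 : g ∈ (closure {(⟨a, ha⟩ : L), ⟨b, hb⟩}).map L.subtype := by
      rw [h1]; exact hL hg
    obtain ⟨g', hg', he⟩ := h2
    have : g' = ⟨g, hg⟩ := Subtype.ext he
    rwa [← this]

/-- Product of powers in the base case. -/
theorem base (hP : IsPGroup 2 P) (x y : P) (hxy : ∀ g : P, ∃ i j : ℤ, g = x ^ i * y ^ j)
    (L : Subgroup P) (hL : L.index = 2) (hx : x ∈ L) (c : P) (hcL : c ∈ L)
    (hcc : ∀ g : P, g * c = c * g)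
    (hcomm : ∀ g ∈ L, ∀ h ∈ L, g * h * g⁻¹ * h⁻¹ = 1 ∨ g * h * g⁻¹ * h⁻¹ = c) : Meta L := by
  have hLn : L.Normal := normal_of_index_eq_two hL
  have hy : y ∉ L := by
    intro hy
    have : L = ⊤ := by
      rw [eq_top_iff]
      intro g _
      obtain ⟨i, j, rfl⟩ := hxy g
      exact L.mul_mem (L.zpow_mem hx i) (L.zpow_mem hy j)
    rw [this, index_top] at hL
    omega
  have hv : y ^ 2 ∈ L := by
    have := Subgroup.sq_mem_of_index_two hL y
    exact this
  set v := y ^ 2 with hvdef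
  have hyv : y * v = v * y := by rw [hvdef]; group
  have hLel : ∀ g ∈ L, ∃ i j : ℤ, g = x ^ i * v ^ j := by
    intro g hg
    obtain ⟨i, j, rfl⟩ := hxy g
    have h1 : y ^ j ∈ L := by
      have := L.mul_mem (L.inv_mem (L.zpow_mem hx i)) hg
      rwa [inv_mul_cancel_left] at this
    rcases Int.even_or_odd j with ⟨k, hk⟩ | hj
    · refine ⟨i, k, ?_⟩
      rw [hvdef, hk, ← zpow_natCast y 2, ← zpow_mul]
      congr 2
      push_cast
      ring
    · exfalso
      have h2 := mem_zpowers_of_odd hP y hj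
      exact hy ((zpowers_le.2 h1) h2)
  have hLcl : L ≤ closure {x, v} := by
    intro g hg
    obtain ⟨i, j, rfl⟩ := hLel g hg
    exact mul_mem (zpow_mem (subset_closure (by simp)) i) (zpow_mem (subset_closure (by simp)) j)
  by_cases hxv : x * v = v * x
  · refine meta_of hx hv ?_ hLcl
    intro g hg
    obtain ⟨i, j, rfl⟩ := hLel g hg
    have h1 : Commute x v := hxv
    have h2 : x ^ i * v ^ j * x * (x ^ i * v ^ j)⁻¹ = x := by
      have h3 : Commute (x ^ i * v ^ j) x :=
        ((Commute.refl x).zpow_left i).mul_left (h1.symm.zpow_left j)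
      rw [h3.eq, mul_inv_cancel_right]
    rw [h2]
    exact mem_zpowers x
  have hc0 : x * v * x⁻¹ * v⁻¹ = c := by
    rcases hcomm x hx v hv with h | h
    · exfalso
      apply hxv
      have := mul_inv_eq_one.1 h
      exact mul_inv_eq_iff_eq_mul.1 this
    · exact h
  have hc1 : c ≠ 1 := by
    rintro rfl
    apply hxv
    have := mul_inv_eq_one.1 hc0
    exact mul_inv_eq_iff_eq_mul.1 this
  have hcC : ∀ g : P, Commute g c := hcc
  -- `x v = c v x`
  have hxvc : x * v = c * (v * x) := by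
    rw [← hc0]; group
  have hc2 : c * c = 1 := by
    have e : x ^ 2 * v * (x ^ 2)⁻¹ * v⁻¹ = c * c := by
      have e1 : x * v * x⁻¹ = c * v := by
        rw [hxvc]; group
      calc x ^ 2 * v * (x ^ 2)⁻¹ * v⁻¹ = x * (x * v * x⁻¹) * x⁻¹ * v⁻¹ := by
            rw [pow_two]; simp only [mul_assoc, mul_inv_rev]
        _ = x * (c * v) * x⁻¹ * v⁻¹ := by rw [e1]
        _ = c * (x * v * x⁻¹) * v⁻¹ := by
            rw [← mul_assoc x c v, hcc x]; group
        _ = c * c := by rw [e1]; group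
    rcases hcomm (x ^ 2) (L.pow_mem hx 2) v hv with h | h
    · rw [e] at h; exact h
    · rw [e] at h
      exact absurd (mul_eq_left.1 h) hc1
  -- commutation of even powers
  have hx2v : Commute (x ^ 2) v := by
    change x ^ 2 * v = v * x ^ 2
    calc x ^ 2 * v = x * (x * v) := by rw [pow_two, mul_assoc]
      _ = x * (c * (v * x)) := by rw [hxvc]
      _ = c * ((x * v) * x) := by rw [← mul_assoc x c, hcc x]; group
      _ = c * (c * (v * x) * x) := by rw [hxvc]
      _ = (c * c) * (v * (x * x)) := by group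
      _ = v * x ^ 2 := by rw [hc2, one_mul, pow_two]
  have hxv2 : Commute x (v ^ 2) := by
    change x * v ^ 2 = v ^ 2 * x
    calc x * v ^ 2 = (x * v) * v := by rw [pow_two, mul_assoc]
      _ = (c * (v * x)) * v := by rw [← hxvc]
      _ = c * (v * (x * v)) := by group
      _ = c * (v * (c * (v * x))) := by rw [← hxvc]
      _ = c * (c * (v * v * x)) := by rw [← mul_assoc v c, hcc v]; group
      _ = (c * c) * (v * v * x) := by group
      _ = v ^ 2 * x := by rw [hc2, one_mul, pow_two]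
  have hevenx : ∀ i : ℤ, Even i → Commute (x ^ i) v := by
    rintro i ⟨k, rfl⟩
    have : x ^ (k + k) = (x ^ 2) ^ k := by
      rw [← zpow_natCast x 2, ← zpow_mul]; congr 1; push_cast; ring
    rw [this]
    exact hx2v.zpow_left k
  have hevenv : ∀ j : ℤ, Even j → Commute x (v ^ j) := by
    rintro i ⟨k, rfl⟩
    have : v ^ (k + k) = (v ^ 2) ^ k := by
      rw [← zpow_natCast v 2, ← zpow_mul]; congr 1; push_cast; ring
    rw [this]
    exact hxv2.zpow_right k
  have hoddx : ∀ i : ℤ, Odd i → ∀ g : P, Commute (x ^ i) g → Commute x g := by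
    intro i hi g hg
    obtain ⟨t, ht⟩ := mem_zpowers_of_odd hP x hi
    change (x ^ i) ^ t = x at ht
    rw [← ht]
    exact hg.zpow_left t
  have hoddv : ∀ i : ℤ, Odd i → ∀ g : P, Commute (v ^ i) g → Commute v g := by
    intro i hi g hg
    obtain ⟨t, ht⟩ := mem_zpowers_of_odd hP v hi
    change (v ^ i) ^ t = v at ht
    rw [← ht]
    exact hg.zpow_left t
  -- `c = x ^ i v ^ j` with `i`, `j` even
  obtain ⟨i, j, hij⟩ := hLel c hcL
  have hi : Even i := by
    by_contra hi
    rw [Int.not_even_iff_odd] at hi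
    have h1 : x ^ i = c * (v ^ j)⁻¹ := by rw [hij]; group
    have h2 : Commute (x ^ i) v := by
      rw [h1]
      exact (hcC v).symm.mul_left ((Commute.refl v).zpow_left j).inv_left
    exact hxv (hoddx i hi v h2)
  have hj : Even j := by
    by_contra hj
    rw [Int.not_even_iff_odd] at hj
    have h1 : v ^ j = (x ^ i)⁻¹ * c := by rw [hij]; group
    have h2 : Commute (v ^ j) x := by
      rw [h1]
      exact ((Commute.refl x).zpow_left i).inv_left.mul_left (hcC x).symm
    exact hxv (hoddv j hj x h2).symm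
  -- the two-part of the gcd
  obtain ⟨e, α, β, he, hα, hβ, hab⟩ : ∃ (e : ℕ) (α β : ℤ), 1 ≤ e ∧ i = 2 ^ e * α ∧ j = 2 ^ e * β ∧
      (Odd α ∨ Odd β) := by
    have h0 : i ≠ 0 ∨ j ≠ 0 := by
      by_contra hcon
      push Not at hcon
      rw [hcon.1, hcon.2] at hij
      exact hc1 (by rw [hij]; simp)
    obtain ⟨e, α, β, h1, h2, h3⟩ := two_part _ i j rfl h0
    refine ⟨e, α, β, ?_, h1, h2, h3⟩
    by_contra hlt
    have he0 : e = 0 := by omega
    subst he0
    rw [pow_zero, one_mul] at h1 h2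
    subst h1 h2
    rcases h3 with h | h
    · exact (Int.not_even_iff_odd.2 h) hi
    · exact (Int.not_even_iff_odd.2 h) hj
  -- the element `w`
  have hvx : v * x = c * (x * v) := by
    rw [hxvc, ← mul_assoc, hc2, one_mul]
  have hwL : x ^ α * v ^ β ∈ L := L.mul_mem (L.zpow_mem hx α) (L.zpow_mem hv β)
  have hcomm2 : ∀ g ∈ L, ∀ h ∈ L, g * h = h * g ∨ g * h = c * (h * g) := by
    intro g hg h hh
    rcases hcomm g hg h hh with h1 | h1
    · left
      have := mul_inv_eq_one.1 h1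
      exact mul_inv_eq_iff_eq_mul.1 this
    · right
      rw [← h1]; group
  -- a normal cyclic subgroup containing `c`
  have hfin : ∀ w : P, (∃ α β : ℤ, w = x ^ α * v ^ β ∧ (Odd α ∨ Odd β)) → c ∈ zpowers w → Meta L := by
    rintro w ⟨α, β, rfl, hab⟩ hcw
    have hwL : x ^ α * v ^ β ∈ L := L.mul_mem (L.zpow_mem hx α) (L.zpow_mem hv β)
    have hnorm : ∀ g ∈ L, g * (x ^ α * v ^ β) * g⁻¹ ∈ zpowers (x ^ α * v ^ β) := by
      intro g hg
      rcases hcomm2 g hg _ hwL with h | h
      · rw [h, mul_inv_cancel_right]; exact mem_zpowers _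
      · rw [h]
        have : c * (x ^ α * v ^ β * g) * g⁻¹ = c * (x ^ α * v ^ β) := by group
        rw [this]
        exact mul_mem hcw (mem_zpowers _)
    rcases hab with hodd | hodd
    · refine meta_of hwL hv hnorm (hLcl.trans ?_)
      rw [closure_le]
      rintro g hg
      have hw' : x ^ α * v ^ β ∈ closure {x ^ α * v ^ β, v} := subset_closure (by simp)
      have hv' : v ∈ closure {x ^ α * v ^ β, v} := subset_closure (by simp)
      rcases hg with rfl | hg
      · have h1 : g ^ α ∈ closure {g ^ α * v ^ β, v} := by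
          have := mul_mem hw' (inv_mem (zpow_mem hv' β))
          rwa [mul_inv_cancel_right] at this
        exact (zpowers_le.2 h1) (mem_zpowers_of_odd hP g hodd)
      · rw [Set.mem_singleton_iff] at hg
        rw [hg]; exact hv'
    · refine meta_of hwL hx hnorm (hLcl.trans ?_)
      rw [closure_le]
      rintro g hg
      have hw' : x ^ α * v ^ β ∈ closure {x ^ α * v ^ β, x} := subset_closure (by simp)
      have hx' : x ∈ closure {x ^ α * v ^ β, x} := subset_closure (by simp)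
      rcases hg with rfl | hg
      · exact hx'
      · rw [Set.mem_singleton_iff] at hg
        have h1 : v ^ β ∈ closure {x ^ α * v ^ β, x} := by
          have := mul_mem (inv_mem (zpow_mem hx' α)) hw'
          rwa [inv_mul_cancel_left] at this
        rw [hg]
        exact (zpowers_le.2 h1) (mem_zpowers_of_odd hP v hodd)
  -- square of a product
  have hsq1 : ∀ a b : ℤ, (Even a ∨ Even b) → (x ^ a * v ^ b) * (x ^ a * v ^ b) =
      x ^ (2 * a) * v ^ (2 * b) := by
    intro a b hab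
    have h1 : Commute (x ^ a) (v ^ b) := by
      rcases hab with h | h
      · exact (hevenx a h).zpow_right b
      · exact (hevenv b h).zpow_left a
    calc (x ^ a * v ^ b) * (x ^ a * v ^ b) = x ^ a * (v ^ b * x ^ a) * v ^ b := by group
      _ = x ^ a * (x ^ a * v ^ b) * v ^ b := by rw [h1.eq]
      _ = x ^ (2 * a) * v ^ (2 * b) := by
        rw [two_mul, two_mul, zpow_add, zpow_add]; group
  have hsq2 : ∀ a b : ℤ, Odd a → Odd b → (x ^ a * v ^ b) * (x ^ a * v ^ b) =
      c * (x ^ (2 * a) * v ^ (2 * b)) := by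
    intro a b ha hb
    have h1 : v ^ b * x ^ a = c * (x ^ a * v ^ b) := by
      rcases hcomm2 _ (L.zpow_mem hv b) _ (L.zpow_mem hx a) with h | h
      · exfalso
        have h2 : Commute (x ^ a) (v ^ b) := h.symm
        exact hxv (hoddv b hb x (hoddx a ha _ h2).symm).symm
      · exact h
    calc (x ^ a * v ^ b) * (x ^ a * v ^ b) = x ^ a * (v ^ b * x ^ a) * v ^ b := by group
      _ = x ^ a * (c * (x ^ a * v ^ b)) * v ^ b := by rw [h1]
      _ = c * (x ^ a * (x ^ a * v ^ b) * v ^ b) := by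
        rw [← mul_assoc (x ^ a) c, hcc (x ^ a)]; group
      _ = c * (x ^ (2 * a) * v ^ (2 * b)) := by
        congr 1
        rw [two_mul, two_mul, zpow_add, zpow_add]; group
  have hx2c : ∀ a b : ℤ, Commute (x ^ (2 * a)) (v ^ (2 * b)) := fun a b =>
    (hevenx _ ⟨a, two_mul a⟩).zpow_right _
  by_cases he2 : 2 ≤ e
  · refine hfin _ ⟨α, β, rfl, hab⟩ ?_
    obtain ⟨f, rfl⟩ : ∃ f, e = f + 2 := ⟨e - 2, by omega⟩
    have hw4 : (x ^ α * v ^ β) ^ (4 : ℤ) = x ^ (2 * (2 * α)) * v ^ (2 * (2 * β)) := by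
      have e1 : (x ^ α * v ^ β) ^ (4 : ℤ) =
          ((x ^ α * v ^ β) * (x ^ α * v ^ β)) * ((x ^ α * v ^ β) * (x ^ α * v ^ β)) := zpow_four' _
      rw [e1, ← hsq1 (2 * α) (2 * β) (Or.inl ⟨α, two_mul α⟩)]
      by_cases hpar : Even α ∨ Even β
      · rw [hsq1 α β hpar]
      · push Not at hpar
        rw [Int.not_even_iff_odd, Int.not_even_iff_odd] at hpar
        rw [hsq2 α β hpar.1 hpar.2]
        calc c * (x ^ (2 * α) * v ^ (2 * β)) * (c * (x ^ (2 * α) * v ^ (2 * β)))
            = c * ((x ^ (2 * α) * v ^ (2 * β)) * c) * (x ^ (2 * α) * v ^ (2 * β)) := by group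
          _ = c * (c * (x ^ (2 * α) * v ^ (2 * β))) * (x ^ (2 * α) * v ^ (2 * β)) := by
            rw [hcc (x ^ (2 * α) * v ^ (2 * β))]
          _ = (c * c) * ((x ^ (2 * α) * v ^ (2 * β)) * (x ^ (2 * α) * v ^ (2 * β))) := by group
          _ = _ := by rw [hc2, one_mul]
    refine ⟨4 * 2 ^ f, ?_⟩
    change (x ^ α * v ^ β) ^ ((4 : ℤ) * 2 ^ f) = c
    rw [zpow_mul, hw4, (hx2c (2 * α) (2 * β)).mul_zpow, ← zpow_mul, ← zpow_mul]
    have e1 : 2 * (2 * α) * 2 ^ f = i := by rw [hα]; ring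
    have e2 : 2 * (2 * β) * 2 ^ f = j := by rw [hβ]; ring
    rw [e1, e2, ← hij]
  have he1 : e = 1 := by omega
  subst he1
  rw [pow_one] at hα hβ
  rw [hα, hβ] at hij
  by_cases hpar : Even α ∨ Even β
  · refine hfin _ ⟨α, β, rfl, hab⟩ ⟨2, ?_⟩
    change (x ^ α * v ^ β) ^ (2 : ℤ) = c
    have e1 : (x ^ α * v ^ β) ^ (2 : ℤ) = (x ^ α * v ^ β) * (x ^ α * v ^ β) := zpow_two _
    rw [e1, hsq1 α β hpar, ← hij]
  push Not at hpar
  rw [Int.not_even_iff_odd, Int.not_even_iff_odd] at hpar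
  obtain ⟨hαo, hβo⟩ := hpar
  -- the special case
  by_cases hcv : c ∈ zpowers v
  · refine meta_of hv hx ?_ (hLcl.trans (le_of_eq (by rw [Set.pair_comm])))
    intro g hg
    rcases hcomm2 g hg v hv with h | h
    · rw [h, mul_inv_cancel_right]; exact mem_zpowers _
    · rw [h]
      have : c * (v * g) * g⁻¹ = c * v := by group
      rw [this]
      exact mul_mem hcv (mem_zpowers _)
  exfalso
  have h44 : x ^ (2 * (2 * α)) * v ^ (2 * (2 * β)) = 1 := by
    rw [← hsq1 (2 * α) (2 * β) (Or.inl ⟨α, two_mul α⟩), ← hij, hc2]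
  have hx4 : ∀ k : ℤ, x ^ (2 * (2 * k)) = (x ^ 4) ^ k := by
    intro k
    rw [← zpow_natCast x 4, ← zpow_mul]; congr 1; push_cast; ring
  have hv4 : ∀ k : ℤ, v ^ (2 * (2 * k)) = (v ^ 4) ^ k := by
    intro k
    rw [← zpow_natCast v 4, ← zpow_mul]; congr 1; push_cast; ring
  have hxv4 : x ^ 4 ∈ zpowers (v ^ 4) := by
    have h1 : (x ^ 4) ^ α ∈ zpowers (v ^ 4) := by
      have h2 : (x ^ 4) ^ α = ((v ^ 4) ^ β)⁻¹ := by
        rw [hx4, hv4] at h44
        exact eq_inv_of_mul_eq_one_left h44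
      rw [h2]
      exact inv_mem (zpow_mem (mem_zpowers _) _)
    exact (zpowers_le.2 h1) (mem_zpowers_of_odd hP _ hαo)
  have hvx4 : v ^ 4 ∈ zpowers (x ^ 4) := by
    have h1 : (v ^ 4) ^ β ∈ zpowers (x ^ 4) := by
      have h2 : (v ^ 4) ^ β = ((x ^ 4) ^ α)⁻¹ := by
        rw [hx4, hv4] at h44
        exact eq_inv_of_mul_eq_one_right h44
      rw [h2]
      exact inv_mem (zpow_mem (mem_zpowers _) _)
    exact (zpowers_le.2 h1) (mem_zpowers_of_odd hP _ hβo)
  have hv4v : v ^ 4 ∈ zpowers v := pow_mem (mem_zpowers v) 4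
  obtain ⟨r, s, hrs⟩ := hLel (y * x * y⁻¹) (hLn.conj_mem x hx y)
  rcases Int.even_or_odd r with hr | hr
  · -- `y x y⁻¹` commutes with `v`
    have h1 : Commute (y * x * y⁻¹) v := by
      rw [hrs]
      exact (hevenx r hr).mul_left ((Commute.refl v).zpow_left s)
    apply hxv
    have h2 : y * (x * v) * y⁻¹ = y * (v * x) * y⁻¹ := by
      calc y * (x * v) * y⁻¹ = (y * x * y⁻¹) * (y * v * y⁻¹) := by group
        _ = (y * x * y⁻¹) * v := by rw [hyv, mul_inv_cancel_right]
        _ = v * (y * x * y⁻¹) := h1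
        _ = (v * y) * x * y⁻¹ := by group
        _ = (y * v) * x * y⁻¹ := by rw [hyv]
        _ = y * (v * x) * y⁻¹ := by group
    exact mul_left_cancel (mul_right_cancel h2)
  rcases Int.even_or_odd s with hs | hs
  · -- `r` odd, `s` even
    obtain ⟨r', hr'⟩ := hr
    obtain ⟨s', hs'⟩ := hs
    have hvs : Commute x (v ^ s) := hevenv s ⟨s', hs'⟩
    have hd : y * x * y⁻¹ = (x ^ (2 * r') * v ^ s) * x := by
      rw [hrs, mul_assoc, ← hvs.eq, ← mul_assoc, hr', zpow_add, zpow_one]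
    have hyx2 : Commute y (x ^ (2 * r')) := by
      have h1 : Commute y ((x ^ 2) ^ α) := by
        have h2 : (x ^ 2) ^ α = c * (v ^ (2 * β))⁻¹ := by
          rw [hij]
          have : (x ^ 2) ^ α = x ^ (2 * α) := by
            rw [← zpow_natCast x 2, ← zpow_mul]; rfl
          rw [this]; group
        rw [h2]
        have h3 : Commute y v := hyv
        exact (hcC y).mul_right (h3.zpow_right _).inv_right
      obtain ⟨t, ht⟩ := mem_zpowers_of_odd hP (x ^ 2) hαo
      change ((x ^ 2) ^ α) ^ t = x ^ 2 at ht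
      have h4 : x ^ (2 * r') = (((x ^ 2) ^ α) ^ t) ^ r' := by
        rw [ht, ← zpow_natCast x 2, ← zpow_mul]; rfl
      rw [h4]
      exact (h1.zpow_right t).zpow_right r'
    have hys : Commute y (x ^ (2 * r') * v ^ s) := by
      have h3 : Commute y v := hyv
      exact hyx2.mul_right (h3.zpow_right _)
    have h5 : v * x * v⁻¹ = (x ^ (2 * r') * v ^ s) * ((x ^ (2 * r') * v ^ s) * x) := by
      calc v * x * v⁻¹ = y * (y * x * y⁻¹) * y⁻¹ := by
            rw [hvdef, pow_two]; simp only [mul_assoc, mul_inv_rev]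
        _ = y * ((x ^ (2 * r') * v ^ s) * x) * y⁻¹ := by rw [hd]
        _ = (y * (x ^ (2 * r') * v ^ s)) * x * y⁻¹ := by group
        _ = ((x ^ (2 * r') * v ^ s) * y) * x * y⁻¹ := by rw [hys.eq]
        _ = (x ^ (2 * r') * v ^ s) * (y * x * y⁻¹) := by group
        _ = _ := by rw [hd]
    have h6 : v * x * v⁻¹ = c * x := by
      rw [hvx]; group
    have h7 : c = (x ^ (2 * r') * v ^ s) * (x ^ (2 * r') * v ^ s) := by
      have : c * x = ((x ^ (2 * r') * v ^ s) * (x ^ (2 * r') * v ^ s)) * x := by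
        rw [← h6, h5]; group
      exact mul_right_cancel this
    have h8 : s = 2 * s' := by rw [hs']; ring
    rw [h8, hsq1 (2 * r') (2 * s') (Or.inl ⟨r', two_mul r'⟩), hx4, hv4] at h7
    apply hcv
    rw [h7]
    refine mul_mem (zpow_mem ?_ _) (zpow_mem hv4v _)
    exact (zpowers_le.2 hv4v) hxv4
  · -- `r`, `s` odd
    have h1 : y * x ^ 2 * y⁻¹ ∈ zpowers (x ^ 4) := by
      have h2 : y * x ^ 2 * y⁻¹ = (y * x * y⁻¹) * (y * x * y⁻¹) := by
        rw [pow_two]; simp only [mul_assoc, inv_mul_cancel_left]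
      rw [h2, hrs, hsq2 r s hr hs, hij]
      obtain ⟨r', hr'⟩ := hr
      obtain ⟨s', hs'⟩ := hs
      obtain ⟨α', hα'⟩ := hαo
      obtain ⟨β', hβ'⟩ := hβo
      have h3 : x ^ (2 * α) * v ^ (2 * β) * (x ^ (2 * r) * v ^ (2 * s)) =
          x ^ (2 * (2 * (α' + r' + 1))) * v ^ (2 * (2 * (β' + s' + 1))) := by
        calc x ^ (2 * α) * v ^ (2 * β) * (x ^ (2 * r) * v ^ (2 * s))
            = x ^ (2 * α) * (v ^ (2 * β) * x ^ (2 * r)) * v ^ (2 * s) := by group
          _ = x ^ (2 * α) * (x ^ (2 * r) * v ^ (2 * β)) * v ^ (2 * s) := by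
              rw [(hx2c r β).eq]
          _ = x ^ (2 * α + 2 * r) * v ^ (2 * β + 2 * s) := by
              rw [zpow_add, zpow_add]; group
          _ = _ := by
              congr 2
              · rw [hα', hr']; ring
              · rw [hβ', hs']; ring
      rw [h3, hx4, hv4]
      exact mul_mem (zpow_mem (mem_zpowers _) _) (zpow_mem hvx4 _)
    have h2 := sq_eq_one_of_conj hP x y h1
    apply hcv
    have h3 : x ^ (2 * α) = 1 := by
      have : x ^ (2 * α) = (x ^ 2) ^ α := by
        rw [← zpow_natCast x 2, ← zpow_mul]; rfl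
      rw [this, h2, one_zpow]
    rw [hij, h3, one_mul]
    exact zpow_mem (mem_zpowers _) _

end base

section lift

variable {P : Type*} [Group P]

theorem commutator_le_self (L : Subgroup P) : ⁅L, L⁆ ≤ L :=
  commutator_le.2 fun _ ha _ hb =>
    L.mul_mem (L.mul_mem (L.mul_mem ha hb) (L.inv_mem ha)) (L.inv_mem hb)

theorem mem_normalizer_of_conj_mem [Finite P] {C : Subgroup P} {b : P}
    (h : ∀ c ∈ C, b * c * b⁻¹ ∈ C) : b ∈ normalizer (C : Set P) := by
  have h1 : C.map (MulAut.conj b).toMonoidHom ≤ C := by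
    rintro _ ⟨c, hc, rfl⟩
    exact h c hc
  have h2 : C.map (MulAut.conj b).toMonoidHom = C := by
    apply eq_of_le_of_card_ge h1
    rw [card_map_of_injective (MulAut.conj b).injective]
  rw [mem_normalizer_iff]
  intro n
  constructor
  · exact h n
  · intro hn
    rw [← h2] at hn
    obtain ⟨c, hc, hce⟩ := hn
    have : c = n := (MulAut.conj b).injective hce
    rwa [← this]

/-- Lifting a metacyclic quotient. -/
theorem lift [Finite P] (hP : IsPGroup 2 P) (L : Subgroup P) (z : P) (hz1 : z ≠ 1)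
    (hz2 : z * z = 1) (hzc : ∀ g : P, g * z = z * g) (hzL : z ∈ ⁅L, L⁆) [hN : (zpowers z).Normal]
    (hM : Meta (L.map (QuotientGroup.mk' (zpowers z)))) :
    Meta L ∨ ∀ g ∈ L, ∀ h ∈ L, g * h * g⁻¹ * h⁻¹ = 1 ∨ g * h * g⁻¹ * h⁻¹ = z := by
  have hzL' : z ∈ L := commutator_le_self L hzL
  have hzel : ∀ w ∈ zpowers z, w = 1 ∨ w = z := by
    rintro _ ⟨k, rfl⟩
    rcases Int.even_or_odd k with ⟨m, rfl⟩ | ⟨m, rfl⟩
    · left
      change z ^ (m + m) = 1
      rw [zpow_add, ← mul_zpow_self_two hz2]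
    · right
      change z ^ (2 * m + 1) = z
      rw [zpow_add, zpow_one, two_mul, zpow_add, ← mul_zpow_self_two hz2, one_mul]
  obtain ⟨⟨a', ha'⟩, ⟨b', hb'⟩, hn, hcl⟩ := hM
  obtain ⟨a, ha, hae⟩ := ha'
  obtain ⟨b, hb, hbe⟩ := hb'
  subst hae hbe
  -- normality
  have hna : ∀ g ∈ L, ∃ (k : ℤ) (w : P), w ∈ zpowers z ∧ g * a * g⁻¹ = a ^ k * w := by
    intro g hg
    have h1 := hn.conj_mem _ (mem_zpowers _) ⟨QuotientGroup.mk' (zpowers z) g, mem_map_of_mem _ hg⟩
    obtain ⟨k, hk⟩ := h1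
    have h2 := congrArg Subtype.val hk
    have h3 : QuotientGroup.mk' (zpowers z) (a ^ k) = QuotientGroup.mk' (zpowers z) (g * a * g⁻¹) := by
      rw [map_mul, map_mul, map_inv, map_zpow]
      exact h2
    have h4 := (QuotientGroup.mk'_eq_mk' (N := zpowers z)).1 h3
    obtain ⟨w, hw, hw'⟩ := h4
    exact ⟨k, w, hw, hw'.symm⟩
  have hgen : L ≤ closure {a, b, z} := by
    intro g hg
    have h1 : (⟨QuotientGroup.mk' (zpowers z) g, mem_map_of_mem _ hg⟩ :
        L.map (QuotientGroup.mk' (zpowers z))) ∈ closure {(⟨_, mem_map_of_mem _ ha⟩ :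
        L.map (QuotientGroup.mk' (zpowers z))), ⟨_, mem_map_of_mem _ hb⟩} := by
      rw [hcl]; exact mem_top _
    have h2 := mem_map_of_mem (L.map (QuotientGroup.mk' (zpowers z))).subtype h1
    rw [MonoidHom.map_closure, Set.image_pair] at h2
    have h3 : QuotientGroup.mk' (zpowers z) g ∈ (closure {a, b}).map (QuotientGroup.mk' (zpowers z)) := by
      rw [MonoidHom.map_closure, Set.image_pair]
      exact h2
    obtain ⟨h, hh, hhe⟩ := h3
    obtain ⟨w, hw, hw'⟩ := (QuotientGroup.mk'_eq_mk' (N := zpowers z)).1 hhe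
    rw [← hw']
    refine mul_mem (closure_mono (by
      intro t ht
      rcases ht with rfl | ht
      · simp
      · rw [Set.mem_singleton_iff] at ht
        simp [ht]) hh) ?_
    have : z ∈ closure {a, b, z} := subset_closure (by simp)
    exact (zpowers_le.2 this) hw
  by_cases hza : z ∈ zpowers a
  · left
    refine meta_of ha hb ?_ (hgen.trans ?_)
    · intro g hg
      obtain ⟨k, w, hw, hk⟩ := hna g hg
      rw [hk]
      exact mul_mem (zpow_mem (mem_zpowers a) k) ((zpowers_le.2 hza) hw)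
    · rw [closure_le]
      rintro g hg
      rcases hg with rfl | hg | hg
      · exact subset_closure (by simp)
      · rw [hg]; exact subset_closure (by simp)
      · rw [Set.mem_singleton_iff] at hg
        rw [hg]
        have : a ∈ closure {a, b} := subset_closure (by simp)
        exact (zpowers_le.2 this) hza
  right
  obtain ⟨k, w, hw, hk⟩ := hna b hb
  have hwc : ∀ g : P, Commute g w := by
    intro g
    rcases hzel w hw with rfl | rfl
    · exact Commute.one_right g
    · exact hzc g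
  have haw : ∀ n : ℤ, Commute (a ^ n) w := fun n => hwc _
  -- `d = [b, a]`
  have hd : b * a * b⁻¹ * a⁻¹ = a ^ (k - 1) * w := by
    rw [hk, zpow_sub_one, mul_assoc, ← (hwc a⁻¹).eq, ← mul_assoc]
  have had : Commute a (a ^ (k - 1) * w) :=
    ((Commute.refl a).zpow_right _).mul_right (hwc a)
  have hbd : b * (a ^ (k - 1) * w) * b⁻¹ = (a ^ (k - 1) * w) ^ k := by
    have h1 : b * (a ^ (k - 1) * w) * b⁻¹ = (b * a ^ (k - 1) * b⁻¹) * w := by
      have : b * (a ^ (k - 1) * w) * b⁻¹ = b * a ^ (k - 1) * (w * b⁻¹) := by group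
      rw [this, ← (hwc b⁻¹).eq]
      group
    rw [h1, ← conj_zpow, hk, (haw k).mul_zpow, (haw (k - 1)).mul_zpow, ← zpow_mul, ← zpow_mul,
      mul_assoc, ← zpow_add_one]
    congr 2
    · ring
    · ring
  have hnorm : ∀ s ∈ ({a, b, z} : Set P), s ∈ normalizer ((zpowers (a ^ (k - 1) * w) : Subgroup P) : Set P) := by
    intro s hs
    apply mem_normalizer_of_conj_mem
    rintro _ ⟨n, rfl⟩
    change s * (a ^ (k - 1) * w) ^ n * s⁻¹ ∈ _
    rw [← conj_zpow]
    refine zpow_mem ?_ n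
    rcases hs with rfl | hs | hs
    · rw [had.eq, mul_inv_cancel_right]; exact mem_zpowers _
    · rw [hs, hbd]; exact zpow_mem (mem_zpowers _) _
    · rw [Set.mem_singleton_iff] at hs
      rw [hs, ← hzc, mul_inv_cancel_right]; exact mem_zpowers _
  have hcm : ∀ s ∈ ({a, b, z} : Set P), ∀ t ∈ ({a, b, z} : Set P), s * t * s⁻¹ * t⁻¹ ∈
      zpowers (a ^ (k - 1) * w) := by
    have hzl : ∀ t : P, z * t * z⁻¹ * t⁻¹ = 1 := by
      intro t; rw [← hzc]; group
    have hzr : ∀ t : P, t * z * t⁻¹ * z⁻¹ = 1 := by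
      intro t; rw [hzc]; group
    have hba : b * a * b⁻¹ * a⁻¹ ∈ zpowers (a ^ (k - 1) * w) := by
      rw [hd]; exact mem_zpowers _
    have hab : a * b * a⁻¹ * b⁻¹ ∈ zpowers (a ^ (k - 1) * w) := by
      have : a * b * a⁻¹ * b⁻¹ = (b * a * b⁻¹ * a⁻¹)⁻¹ := by group
      rw [this]; exact inv_mem hba
    intro s hs t ht
    rcases hs with hs | hs | hs
    · rcases ht with ht | ht | ht
      · rw [hs, ht]; simp
      · rw [hs, ht]; exact hab
      · rw [Set.mem_singleton_iff] at ht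
        rw [ht, hzr]; exact one_mem _
    · rcases ht with ht | ht | ht
      · rw [hs, ht]; exact hba
      · rw [hs, ht]; simp
      · rw [Set.mem_singleton_iff] at ht
        rw [ht, hzr]; exact one_mem _
    · rw [Set.mem_singleton_iff] at hs
      rw [hs, hzl]; exact one_mem _
  have hall := comm_closure _ _ hnorm hcm
  have hzd : z ∈ zpowers (a ^ (k - 1) * w) := by
    have : ⁅L, L⁆ ≤ zpowers (a ^ (k - 1) * w) :=
      commutator_le.2 fun g hg h hh => hall g (hgen hg) h (hgen hh)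
    exact this hzL
  -- `a ^ (k - 1) = 1`
  obtain ⟨t, ht⟩ := hzd
  change (a ^ (k - 1) * w) ^ t = z at ht
  rw [(haw (k - 1)).mul_zpow] at ht
  have hak : a ^ (k - 1) = 1 := by
    rcases hzel w hw with rfl | rfl
    · exfalso
      rw [one_zpow, mul_one, ← zpow_mul] at ht
      exact hza ⟨_, ht⟩
    · rcases Int.even_or_odd t with hte | hto
      · exfalso
        rcases hzel (w ^ t) (zpow_mem (mem_zpowers _) _) with h1 | h1
        · rw [h1, mul_one, ← zpow_mul] at ht
          exact hza ⟨_, ht⟩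
        · obtain ⟨m, rfl⟩ := hte
          rw [zpow_add, ← mul_zpow_self_two hz2] at h1
          exact hz1 h1.symm
      · have h1 : w ^ t = w := by
          obtain ⟨m, rfl⟩ := hto
          rw [zpow_add, zpow_one, two_mul, zpow_add, ← mul_zpow_self_two hz2, one_mul]
        rw [h1] at ht
        have h2 : (a ^ (k - 1)) ^ t = 1 := mul_eq_right.1 ht
        have h3 := mem_zpowers_of_odd hP (a ^ (k - 1)) hto
        rw [h2, zpowers_one_eq_bot, mem_bot] at h3
        exact h3
  intro g hg h hh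
  have h1 := hall g (hgen hg) h (hgen hh)
  rw [hak, one_mul] at h1
  exact hzel _ ((zpowers_le.2 hw) h1)

end lift

universe u

/-- In a finite 2-group `P = ⟨x⟩⟨y⟩` a subgroup of index 2 containing `x` is metacyclic. -/
theorem main (n : ℕ) : ∀ (P : Type u) [Group P] [Finite P], Nat.card P = n → IsPGroup 2 P →
    ∀ x y : P, (∀ g : P, ∃ i j : ℤ, g = x ^ i * y ^ j) → ∀ L : Subgroup P, L.index = 2 → x ∈ L →
      Meta L := by
  induction n using Nat.strong_induction_on with
  | _ n ih =>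
    intro P _ _ hn hP x y hxy L hL hx
    have : Fact (Nat.Prime 2) := ⟨Nat.prime_two⟩
    have hLn : L.Normal := normal_of_index_eq_two hL
    by_cases hcom : ⁅L, L⁆ = ⊥
    · refine base hP x y hxy L hL hx 1 L.one_mem (by simp) ?_
      intro g hg h hh
      left
      have := commutator_mem_commutator hg hh
      rw [hcom, mem_bot] at this
      exact this
    · have hnil : Group.IsNilpotent P := hP.isNilpotent
      have hne := Lib.NormalAbelian.normal_inf_center_ne_bot ⁅L, L⁆ hcom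
      set Z := ⁅L, L⁆ ⊓ center P with hZ
      have hZp : IsPGroup 2 Z := hP.to_subgroup Z
      have hdvd : 2 ∣ Nat.card Z := by
        have : Nontrivial Z := (nontrivial_iff_ne_bot Z).2 hne
        obtain ⟨k, hk0, hk⟩ := hZp.nontrivial_iff_card.1 this
        rw [hk]
        exact dvd_pow_self 2 hk0.ne'
      obtain ⟨⟨z, hz⟩, hzo⟩ := exists_prime_orderOf_dvd_card' 2 hdvd
      rw [orderOf_mk] at hzo
      have hz1 : z ≠ 1 := by
        rintro rfl
        rw [orderOf_one] at hzo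
        omega
      have hz2 : z * z = 1 := by
        rw [← pow_two, ← hzo, pow_orderOf_eq_one]
      have hzc : ∀ g : P, g * z = z * g := fun g => mem_center_iff.1 hz.2 g
      have hzL : z ∈ L := commutator_le_self L hz.1
      have hN : (zpowers z).Normal := by
        constructor
        rintro _ ⟨k, rfl⟩ g
        refine ⟨k, ?_⟩
        change z ^ k = g * z ^ k * g⁻¹
        rw [← conj_zpow, hzc g, mul_inv_cancel_right]
      have hcard : Nat.card (P ⧸ zpowers z) < n := by
        rw [← hn, card_eq_card_quotient_mul_card_subgroup (zpowers z), Nat.card_zpowers, hzo]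
        have : 0 < Nat.card (P ⧸ zpowers z) := Nat.card_pos
        omega
      have hM : Meta (L.map (QuotientGroup.mk' (zpowers z))) := by
        refine ih _ hcard (P ⧸ zpowers z) rfl (hP.to_quotient _) (QuotientGroup.mk' (zpowers z) x)
          (QuotientGroup.mk' (zpowers z) y) ?_ _ ?_ (mem_map_of_mem _ hx)
        · intro g
          obtain ⟨g, rfl⟩ := QuotientGroup.mk'_surjective _ g
          obtain ⟨i, j, hij⟩ := hxy g
          refine ⟨i, j, ?_⟩
          rw [← map_zpow, ← map_zpow, ← map_mul, ← hij]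
        · rw [index_map_eq _ (QuotientGroup.mk'_surjective _), hL]
          rw [QuotientGroup.ker_mk']
          exact zpowers_le.2 hzL
      rcases lift hP L z hz1 hz2 hzc hz.1 hM with h | h
      · exact h
      · exact base hP x y hxy L hL hx z hzL hzc h

open Cfsg Cfsg.Agent.GH.Rank Cfsg.Agent.TwoFusion.SectionalRank

/-- Cyclic groups have sectional rank at most 1. -/
theorem cyclic_sectional {M : Type*} [Group M] [Finite M] [IsCyclic M] : SectionalPRankLE 2 1 M := by
  have : IsCyclic (⊤ : Subgroup M) := inferInstance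
  exact sectionalPRankLE_of_cyclic (k := 0) (by norm_num) (⊤ : Subgroup M) (by simp)

/-- Metacyclic groups have sectional rank at most 2. -/
theorem Meta.sectional {M : Type*} [Group M] [Finite M] (h : Meta M) : SectionalPRankLE 2 2 M := by
  obtain ⟨a, b, hn, hcl⟩ := h
  have h2 : IsCyclic (M ⧸ zpowers a) := by
    refine ⟨QuotientGroup.mk' (zpowers a) b, ?_⟩
    intro g
    obtain ⟨g, rfl⟩ := QuotientGroup.mk'_surjective _ g
    have h3 : (⊤ : Subgroup M).map (QuotientGroup.mk' (zpowers a)) ≤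
        zpowers (QuotientGroup.mk' (zpowers a) b) := by
      rw [← hcl, MonoidHom.map_closure, closure_le]
      rintro _ ⟨t, ht, rfl⟩
      rcases ht with rfl | ht
      · have : QuotientGroup.mk' (zpowers t) t = 1 := by
          rw [QuotientGroup.mk'_apply, QuotientGroup.eq_one_iff]
          exact mem_zpowers t
        rw [this]; exact one_mem _
      · rw [Set.mem_singleton_iff] at ht
        rw [ht]; exact mem_zpowers _
    exact h3 (mem_map_of_mem _ (mem_top g))
  exact of_normal (zpowers a) cyclic_sectional cyclic_sectional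

/-- A finite 2-group which is a product of two cyclic subgroups has sectional 2-rank at most 3. -/
theorem sectional {P : Type*} [Group P] [Finite P] (hP : IsPGroup 2 P) (x y : P)
    (hxy : ∀ g : P, ∃ i j : ℤ, g = x ^ i * y ^ j) : SectionalPRankLE 2 3 P := by
  have : Fact (Nat.Prime 2) := ⟨Nat.prime_two⟩
  obtain ⟨n, hn⟩ := IsPGroup.iff_card.1 hP
  obtain ⟨m, hm⟩ := IsPGroup.iff_card.1 (hP.to_subgroup (zpowers x))
  rcases Nat.lt_or_ge m n with hlt | hge
  · obtain ⟨L, hLc, hL⟩ := Sylow.exists_subgroup_card_pow_prime_le (p := 2) (n := m) (m := n - 1)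
      (by rw [hn]; exact pow_dvd_pow 2 (Nat.sub_le n 1)) (zpowers x) hm (by omega)
    have hLi : L.index = 2 := by
      have h1 := L.card_mul_index
      rw [hLc, hn] at h1
      have h2 : 2 ^ n = 2 ^ (n - 1) * 2 := by
        rw [← pow_succ]; congr 1; omega
      rw [h2] at h1
      exact Nat.eq_of_mul_eq_mul_left (by positivity) h1
    have hM := main _ P rfl hP x y hxy L hLi (hL (mem_zpowers x))
    exact of_index_le (p := 2) (a := 2) (b := 1) hM.sectional (by rw [hLi, pow_one])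
  · have h1 : zpowers x = ⊤ := by
      apply eq_top_of_le_card
      rw [hn, hm]
      exact Nat.pow_le_pow_right (by norm_num) hge
    have h2 : IsCyclic P := ⟨x, fun g => by
      have h3 : g ∈ zpowers x := by rw [h1]; exact mem_top g
      exact h3⟩
    exact le_mono (by norm_num) cyclic_sectional (by norm_num)

end Cfsg.Agent.H331.Bicyclic
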