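import Cfsg.Agent.RankThree.GHPlug
import Cfsg.Agent.GH.FinalMain
import Cfsg.Agent.GH.FinalStmts
import Cfsg.Agent.GH.BranchC2
import Cfsg.Agent.LFour.ExtAll

/-!
# The simple groups of 2-rank at least 3 and sectional 2-rank at most 4, at the level of isomorphism
-/

set_option autoImplicit false

namespace Cfsg.Agent.H331.KFour

universe u

open Cfsg Cfsg.Agent

/-- The simple groups of 2-rank at least 3 and sectional 2-rank at most 4. -/
theorem k4r {G : Type u} [Group G] [Finite G] [IsSimpleGroup G] (hna : ¬ IsMulCommutative G)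
    (h2 : ¬ PRankLE 2 2 G) (h4 : SectionalPRankLE 2 4 G) : GH.AssemblyK4.K4r G :=
  (RankThree.GHPlug.propGH_of
      (GH.FinalStmts.stmts fun _ _ _ _ _ _ _ hF S P e => LFour.ExtAll.conclR hF S P e)
      (GH.FinalMain.gh_of GH.BranchC2.branchC2)) G hna h2 h4

end Cfsg.Agent.H331.KFour
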