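import Mathlib
import Cfsg.Prelude.Def_CaseTheorems
import Cfsg.Agent.H331.SCBasic
import Cfsg.Agent.H331.SCExc
import Cfsg.Agent.H971.Bender
import Cfsg.Agent.S1225
import Cfsg.Agent.S1250

/-!
# Strongly closed 2-subgroups: the case of a product of exceptional groups

`Prd A L`: the conclusion of S1252 for the strongly closed subgroup `A`.
-/

set_option autoImplicit false

namespace Cfsg.Agent.H331.SCMain

open Cfsg Subgroup
open Cfsg.Agent.H331.SCBasic Cfsg.Agent.H331.SCExc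
open Cfsg.Agent.StrongEmb.TwoRank Cfsg.Agent.StrongEmb.Split

universe u

/-- The conclusion of S1252. -/
structure Prd {Q : Type u} [Group Q] [Finite Q] (A : Subgroup Q) {r : ℕ} (L : Fin r → Subgroup Q) : Prop where
  comm : ∀ i j, i ≠ j → ∀ a ∈ L i, ∀ b ∈ L j, a * b = b * a
  ind : ∀ i, L i ⊓ (⨆ j ∈ {j | j ≠ i}, L j) = ⊥
  sup : (⨆ i, L i) = normalClosure (A : Set Q)
  simple : ∀ i, IsSimpleGroup (L i)
  sl : ∀ i, ∀ P : Sylow 2 (L i), SL (P : Subgroup (L i))
  cen : ∀ i, ∃ P : Sylow 2 (L i), A ⊓ L i = ((center (P : Subgroup (L i))).map (P : Subgroup (L i)).subtype).map (L i).subtype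

namespace Prd

variable {Q : Type u} [Group Q] [Finite Q] {A : Subgroup Q} {r : ℕ} {L : Fin r → Subgroup Q} (D : Prd A L)

include D

/-- The involutions of `L i` are conjugate into `A`. -/
theorem conj_one (i : Fin r) {l : Q} (hl : l ∈ L i) (hl2 : l * l = 1) : ∃ g ∈ L i, g * l * g⁻¹ ∈ A := by
  have : Fact (Nat.Prime 2) := ⟨Nat.prime_two⟩
  by_cases hl1 : l = 1
  · exact ⟨1, one_mem _, by rw [hl1]; simp⟩
  obtain ⟨P, hP⟩ := D.cen i
  have h1 : IsPGroup 2 (zpowers (⟨l, hl⟩ : L i)) := by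
    apply IsPGroup.of_card (n := 1)
    rw [Nat.card_zpowers, Subgroup.orderOf_mk, pow_one]
    exact orderOf_eq_prime (by rw [pow_two, hl2]) hl1
  obtain ⟨R, hR⟩ := h1.exists_le_sylow
  obtain ⟨g, hg⟩ := MulAction.exists_smul_eq (L i) R P
  have h2 : g * ⟨l, hl⟩ * g⁻¹ ∈ P := by
    rw [← hg]
    exact ⟨_, hR (mem_zpowers _), rfl⟩
  have h3 : (⟨_, h2⟩ : (P : Subgroup (L i))) ∈ center (P : Subgroup (L i)) := by
    apply (D.sl i P).inv
    apply Subtype.ext
    apply Subtype.ext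
    show (g : Q) * l * (g : Q)⁻¹ * ((g : Q) * l * (g : Q)⁻¹) = 1
    calc (g : Q) * l * (g : Q)⁻¹ * ((g : Q) * l * (g : Q)⁻¹) = g * (l * l) * (g : Q)⁻¹ := by group
      _ = 1 := by rw [hl2]; group
  refine ⟨g, g.2, ?_⟩
  have h4 : (g : Q) * l * (g : Q)⁻¹ ∈ A ⊓ L i := by
    rw [hP]
    exact ⟨_, ⟨_, h3, rfl⟩, rfl⟩
  exact h4.1

theorem pairwise : Pairwise fun i j => ∀ x y : Q, x ∈ L i → y ∈ L j → Commute x y :=
  fun i j hij x y hx hy => D.comm i j hij x hx y hy

theorem iSupIndep : iSupIndep L := by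
  intro i
  rw [disjoint_iff]
  exact D.ind i

/-- The involutions of the product are conjugate into `A`. -/
theorem conj_into {y : Q} (hy : y ∈ normalClosure (A : Set Q)) (hy2 : y * y = 1) : ∃ g : Q, g * y * g⁻¹ ∈ A := by
  classical
  have hinj := injective_noncommPiCoprod_of_iSupIndep (hcomm := D.pairwise) D.iSupIndep
  set φ := noncommPiCoprod D.pairwise with hφ
  rw [← D.sup, ← noncommPiCoprod_range (hcomm := D.pairwise)] at hy
  obtain ⟨f, hf⟩ := hy
  rw [← hφ] at hf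
  have hff : f * f = 1 := by
    apply hinj
    rw [map_mul, map_one, hf, hy2]
  have h1 : ∀ i, ∃ g : L i, (g : Q) * f i * (g : Q)⁻¹ ∈ A := by
    intro i
    have h2 : (f i : Q) * f i = 1 := congrArg Subtype.val (congrFun hff i)
    obtain ⟨g, hg, hg'⟩ := D.conj_one i (f i).2 h2
    exact ⟨⟨g, hg⟩, hg'⟩
  choose g hg using h1
  refine ⟨φ g, ?_⟩
  have h3 : φ g * y * (φ g)⁻¹ = φ (g * f * g⁻¹) := by rw [map_mul, map_mul, map_inv, hf]
  rw [h3, hφ, noncommPiCoprod_apply]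
  refine noncommProd_mem _ _ ?_
  intro i _
  exact hg i

theorem le_norm (i : Fin r) : normalClosure (A : Set Q) ≤ normalizer (L i : Set Q) := by
  rw [← D.sup]
  refine iSup_le fun j => ?_
  by_cases hij : j = i
  · subst hij; exact le_normalizer
  · intro x hx
    refine mem_normalizer_of_conj fun y hy => ?_
    rw [D.comm j i hij x hx y hy, mul_inv_cancel_right]
    exact hy

theorem le_sup (i : Fin r) : L i ≤ normalClosure (A : Set Q) := by
  rw [← D.sup]; exact le_iSup L i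

theorem disj {i j : Fin r} (hij : i ≠ j) {x : Q} (hi : x ∈ L i) (hj : x ∈ L j) : x = 1 := by
  have h1 : x ∈ L i ⊓ (⨆ j ∈ {j | j ≠ i}, L j) :=
    ⟨hi, (le_iSup₂ (f := fun j (_ : j ∈ {j | j ≠ i}) => L j) j hij.symm) hj⟩
  rw [D.ind i] at h1
  exact mem_bot.1 h1

/-- Involutions of `A ∩ L i`. -/
theorem exists_two (i : Fin r) : ∃ x ∈ A ⊓ L i, ∃ y ∈ A ⊓ L i, x ≠ y ∧ x ≠ 1 ∧ x * x = 1 ∧ y ≠ 1 ∧ y * y = 1 := by
  obtain ⟨P, hP⟩ := D.cen i
  obtain ⟨x, y, hxy, hx1, hx, hy1, hy⟩ := (D.sl i P).two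
  rw [hP]
  refine ⟨_, ⟨_, ⟨x, (D.sl i P).inv x hx, rfl⟩, rfl⟩, _, ⟨_, ⟨y, (D.sl i P).inv y hy, rfl⟩, rfl⟩, ?_, ?_, ?_, ?_, ?_⟩
  · intro h; exact hxy (Subtype.ext (Subtype.ext h))
  · intro h; exact hx1 (Subtype.ext (Subtype.ext h))
  · exact congrArg Subtype.val (congrArg Subtype.val hx)
  · intro h; exact hy1 (Subtype.ext (Subtype.ext h))
  · exact congrArg Subtype.val (congrArg Subtype.val hy)

theorem exp (i : Fin r) {x : Q} (hx : x ∈ A ⊓ L i) : x * x = 1 := by
  obtain ⟨P, hP⟩ := D.cen i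
  rw [hP] at hx
  obtain ⟨_, ⟨x, hx, rfl⟩, rfl⟩ := hx
  have := (D.sl i P).exp x hx
  exact congrArg Subtype.val (congrArg Subtype.val this)

theorem not_comm (i : Fin r) : ¬ ∀ x y : L i, x * y = y * x := by
  intro hcom
  obtain ⟨P, hP⟩ := D.cen i
  obtain ⟨x, y, hxy⟩ := (D.sl i P).nab
  exact hxy (Subtype.ext (hcom x y))

end Prd

/-- A group with a quotient containing a Suzuki 2-group has two commuting involutions. -/
theorem commPair_of {X K : Type u} [Group X] [Finite X] [Group K] [Finite K] (f : X →* K)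
    (hf : Function.Surjective f) {P : Type*} [Group P] [Finite P] (hP : IsPGroup 2 P) (hSL : SL P) (g : P →* K)
    (hg : Function.Injective g) : CommPair X := by
  have : Fact (Nat.Prime 2) := ⟨Nat.prime_two⟩
  by_contra hno
  have hPr : IsPGroup 2 g.range := by
    intro x
    obtain ⟨_, p, rfl⟩ := x
    obtain ⟨k, hk⟩ := hP p
    exact ⟨k, Subtype.ext (by
      show (g p) ^ 2 ^ k = 1
      rw [← map_pow, hk, map_one])⟩
  obtain ⟨R', hR'⟩ := hPr.exists_le_sylow
  obtain ⟨R, rfl⟩ := Sylow.mapSurjective_surjective hf 2 R'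
  have hcom : ∀ a b : X, a ≠ 1 → a * a = 1 → b ≠ 1 → b * b = 1 → a * b = b * a → a = b := by
    intro a b ha1 ha hb1 hb hab
    by_contra hne
    exact hno ⟨a, b, orderOf_eq_prime (by rw [pow_two, ha]) ha1, orderOf_eq_prime (by rw [pow_two, hb]) hb1, hne, hab⟩
  have hu : ∀ x y : (R : Subgroup X), x ≠ 1 → x * x = 1 → y ≠ 1 → y * y = 1 → x = y := by
    intro x y hx1 hx hy1 hy
    have hRne : (R : Subgroup X) ≠ ⊥ := by
      intro hb
      have h1 : (x : X) ∈ (⊥ : Subgroup X) := hb.le x.2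
      exact hx1 (Subtype.ext (mem_bot.1 h1))
    obtain ⟨z, hz, hz1, hz2, hzc⟩ := exists_cen R.2 le_rfl
      (fun e he d hd => mul_mem (mul_mem he hd) (inv_mem he)) hRne
    have h1 := hcom x z (fun h => hx1 (Subtype.ext h)) (congrArg Subtype.val hx) hz1 hz2 (hzc x x.2)
    have h2 := hcom y z (fun h => hy1 (Subtype.ext h)) (congrArg Subtype.val hy) hz1 hz2 (hzc y y.2)
    exact Subtype.ext (h1.trans h2.symm)
  have h1 : Cy (R : Subgroup X) := cy_of_unique R.2 hu
  have h2 : Cy ((R : Subgroup X).map f) := h1.map (f.subgroupMap _) (f.subgroupMap_surjective _)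
  let g' : P →* (R : Subgroup X).map f :=
    { toFun := fun p => ⟨g p, hR' ⟨p, rfl⟩⟩
      map_one' := Subtype.ext (map_one g)
      map_mul' := fun x y => Subtype.ext (map_mul g x y) }
  have h3 : Cy P := h2.of_injective g' fun x y hxy => hg (congrArg Subtype.val hxy)
  exact hSL.not_cy h3

section main

variable {G : Type u} [Group G] [Finite G] {T : Sylow 2 G} {S H N : Subgroup G} [hNn : N.Normal]
  (h : Hyp T S H) (hN : (T : Subgroup G) ⊓ N ≤ S) {r : ℕ} {L : Fin r → Subgroup (G ⧸ N)}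
  (D : Prd (S.map (QuotientGroup.mk' N)) L)

include h hN

theorem mem_of_image {t : G} (ht : t ∈ (T : Subgroup G)) (hi : QuotientGroup.mk' N t ∈ S.map (QuotientGroup.mk' N)) :
    t ∈ S := by
  obtain ⟨s, hs, hst⟩ := hi
  have h1 : s⁻¹ * t ∈ N := QuotientGroup.eq.1 hst
  have h2 : s⁻¹ * t ∈ S := hN ⟨(T : Subgroup G).mul_mem ((T : Subgroup G).inv_mem (h.sc.1 hs)) ht, h1⟩
  have h3 := mul_mem hs h2
  rwa [mul_inv_cancel_left] at h3

omit h hN [Finite G] in
theorem map_X : (normalClosure (S : Set G)).map (QuotientGroup.mk' N) =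
    normalClosure ((S.map (QuotientGroup.mk' N) : Subgroup (G ⧸ N)) : Set (G ⧸ N)) := by
  rw [map_normalClosure _ _ (QuotientGroup.mk'_surjective N), coe_map]

include D

theorem omega {t : G} (ht : t ∈ (T : Subgroup G)) (htX : t ∈ normalClosure (S : Set G)) (ht2 : t * t = 1) :
    t ∈ S := by
  have : Fact (Nat.Prime 2) := ⟨Nat.prime_two⟩
  have h1 : QuotientGroup.mk' N t ∈ normalClosure ((S.map (QuotientGroup.mk' N) : Subgroup (G ⧸ N)) : Set (G ⧸ N)) := by
    rw [← map_X]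
    exact ⟨t, htX, rfl⟩
  obtain ⟨g, hg⟩ := D.conj_into h1 (by rw [← map_mul, ht2, map_one])
  have hcl := Cfsg.Agent.S1250.result T S h.sc N
  have h2 := hcl.2 _ hg g⁻¹ (by
    have e : g⁻¹ * (g * QuotientGroup.mk' N t * g⁻¹) * g⁻¹⁻¹ = QuotientGroup.mk' N t := by group
    rw [e]
    exact ⟨t, ht, rfl⟩)
  have e : g⁻¹ * (g * QuotientGroup.mk' N t * g⁻¹) * g⁻¹⁻¹ = QuotientGroup.mk' N t := by group
  rw [e] at h2
  exact mem_of_image h hN ht h2

theorem strong : IsStronglyEmbedded ((H ⊓ normalClosure (S : Set G)).subgroupOf (normalClosure (S : Set G))) :=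
  h.strong fun _ ht htX ht2 => omega h hN D ht htX ht2

/-- `S ∩ N = 1`. -/
theorem inf_eq_bot (hB : ∀ (K : Type u) [Group K] [Finite K], BenderHolds K)
    (hodd : ∀ (K : Type u) [Group K] [Finite K], Odd (Nat.card K) → Group.IsSolvable K) (i : Fin r) :
    S ⊓ N = ⊥ := by
  have : Fact (Nat.Prime 2) := ⟨Nat.prime_two⟩
  by_contra hne
  set X := normalClosure (S : Set G) with hX
  have E := strong h hN D
  rw [← hX] at E
  set π := QuotientGroup.mk' N with hπ
  have hXK : X.map π = normalClosure ((S.map π : Subgroup (G ⧸ N)) : Set (G ⧸ N)) := map_X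
  -- two commuting involutions
  have hr : CommPair X := by
    obtain ⟨P, hP⟩ := D.cen i
    have hle : L i ≤ X.map π := by rw [hXK]; exact D.le_sup i
    refine commPair_of (π.subgroupMap X) (π.subgroupMap_surjective X) P.2 (D.sl i P)
      ((inclusion hle).comp (P : Subgroup (L i)).subtype) ?_
    exact (inclusion_injective hle).comp (P : Subgroup (L i)).subtype_injective
  have hsol := Cfsg.Agent.H971.Bender.isSolvable_of_commPair hB hodd E hr
  -- the involutions of `X` lie in `N`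
  obtain ⟨s, hs, hs1, hs2, -⟩ := exists_cen (E := S) (D := S ⊓ N) h.isPGroup inf_le_left
    (fun e he d hd => ⟨S.mul_mem (S.mul_mem he hd.1) (S.inv_mem he), hNn.conj_mem d hd.2 e⟩) hne
  have hall : ∀ t : X, orderOf t = 2 → (t : G) ∈ N := by
    intro t ht
    have hs' : orderOf (⟨s, h.le_X hs.1⟩ : X) = 2 := by
      rw [Subgroup.orderOf_mk]
      exact orderOf_eq_prime (by rw [pow_two, hs2]) hs1
    obtain ⟨g, hg⟩ := isConj_iff.1
      (Cfsg.Agent.TwoFusion.StronglyEmbeddedBasic.isConj_of_involutions E _ t hs' ht)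
    rw [← hg]
    exact hNn.conj_mem s hs.2 g
  have hinv : ∀ n ∈ Cfsg.Agent.SuzukiRankOne.Reduction.invClosure X, (n : G) ∈ N := by
    intro n hn
    have h1 : Cfsg.Agent.SuzukiRankOne.Reduction.invClosure X ≤ N.subgroupOf X := by
      refine (closure_le _).2 ?_
      rintro x ⟨hx1, hx2⟩
      exact mem_subgroupOf.2 (hall x (orderOf_eq_prime (by rw [pow_two, hx2]) hx1))
    exact mem_subgroupOf.1 (h1 hn)
  -- `L i` is a subgroup of the image of `H ∩ X`
  set HX := (H ⊓ X).subgroupOf X with hHX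
  let ψ : HX →* G ⧸ N := π.comp (X.subtype.comp HX.subtype)
  have hle : L i ≤ ψ.range := by
    intro l hl
    have h1 : l ∈ X.map π := by rw [hXK]; exact D.le_sup i hl
    obtain ⟨x, hx, rfl⟩ := h1
    obtain ⟨n, hn, hnx⟩ := exists_invClosure_mul E ⟨x, hx⟩
    refine ⟨⟨_, hnx⟩, ?_⟩
    show π ((n : G)⁻¹ * x) = π x
    have h2 : π (n : G) = 1 := (QuotientGroup.eq_one_iff (n : G)).2 (hinv n hn)
    rw [map_mul, map_inv, h2, inv_one, one_mul]
  have h1 : Group.IsSolvable ψ.range := Group.isSolvable_of_surjective ψ.rangeRestrict_surjective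
  have h2 : Group.IsSolvable (L i) := Group.isSolvable_of_isSolvable_injective (inclusion_injective hle)
  have h3 := D.simple i
  exact D.not_comm i (IsSimpleGroup.comm_iff_isSolvable.2 h2)

/-- There is only one factor. -/
theorem unique (hSN : S ⊓ N = ⊥) (i j : Fin r) : i = j := by
  have : Fact (Nat.Prime 2) := ⟨Nat.prime_two⟩
  by_contra hij
  have E := strong h hN D
  have hex : ∀ k : Fin r, ∃ s ∈ S, orderOf s = 2 ∧ QuotientGroup.mk' N s ≠ 1 ∧ QuotientGroup.mk' N s ∈ L k := by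
    intro k
    obtain ⟨x, hx, -, -, -, hx1, hx2, -⟩ := D.exists_two k
    obtain ⟨⟨s, hs, hsx⟩, hxL⟩ := hx
    refine ⟨s, hs, ?_, by rw [hsx]; exact hx1, by rw [hsx]; exact hxL⟩
    have h1 : s * s ∈ S ⊓ N := by
      refine ⟨S.mul_mem hs hs, (QuotientGroup.eq_one_iff (N := N) (s * s)).1 ?_⟩
      show QuotientGroup.mk' N (s * s) = 1
      rw [map_mul, hsx, hx2]
    rw [hSN, mem_bot] at h1
    refine orderOf_eq_prime (by rw [pow_two, h1]) ?_
    rintro rfl
    exact hx1 (by rw [← hsx, map_one])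
  obtain ⟨s, hs, hs2, hs1, hsL⟩ := hex i
  obtain ⟨t, ht, ht2, ht1, htL⟩ := hex j
  obtain ⟨g, hg⟩ := isConj_iff.1
    (Cfsg.Agent.TwoFusion.StronglyEmbeddedBasic.isConj_of_involutions E ⟨s, h.le_X hs⟩ ⟨t, h.le_X ht⟩
      (by rw [Subgroup.orderOf_mk, hs2]) (by rw [Subgroup.orderOf_mk, ht2]))
  have hg' : (g : G) * s * (g : G)⁻¹ = t := congrArg Subtype.val hg
  have h1 : QuotientGroup.mk' N (g : G) ∈ normalClosure ((S.map (QuotientGroup.mk' N) : Subgroup (G ⧸ N)) : Set (G ⧸ N)) := by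
    rw [← map_X]
    exact ⟨g, g.2, rfl⟩
  have h2 := (mem_normalizer_iff.1 (D.le_norm i h1) _).1 hsL
  rw [← map_inv, ← map_mul, ← map_mul, hg'] at h2
  exact ht1 (D.disj hij h2 htL)

theorem exp_two (hSN : S ⊓ N = ⊥) (i : Fin r) {s : G} (hs : s ∈ S) : s * s = 1 := by
  have h1 : QuotientGroup.mk' N s ∈ S.map (QuotientGroup.mk' N) := ⟨s, hs, rfl⟩
  have h2 : QuotientGroup.mk' N s ∈ L i := by
    have h3 := subset_normalClosure (s := ((S.map (QuotientGroup.mk' N) : Subgroup (G ⧸ N)) : Set (G ⧸ N))) h1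
    rw [← D.sup] at h3
    have h4 : (⨆ j, L j) ≤ L i := iSup_le fun j => by rw [unique h hN D hSN j i]
    exact h4 h3
  have h3 := D.exp i ⟨h1, h2⟩
  have h4 : s * s ∈ S ⊓ N := by
    refine ⟨S.mul_mem hs hs, (QuotientGroup.eq_one_iff (N := N) (s * s)).1 ?_⟩
    show QuotientGroup.mk' N (s * s) = 1
    rw [map_mul, h3]
  rw [hSN, mem_bot] at h4
  exact h4

theorem eq_omega (hSN : S ⊓ N = ⊥) (i : Fin r) :
    S = omegaOne 2 ((T : Subgroup G) ⊓ normalClosure (S : Set G)) := by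
  apply le_antisymm
  · intro s hs
    exact subset_closure ⟨⟨h.sc.1 hs, h.le_X hs⟩, by rw [pow_two]; exact exp_two h hN D hSN i hs⟩
  · rw [omegaOne, closure_le]
    rintro t ⟨⟨ht, htX⟩, ht2⟩
    exact omega h hN D ht htX (by rw [← pow_two, ht2])

theorem not_rank (hSN : S ⊓ N = ⊥) (i : Fin r) : ¬ PRankLE 2 1 S := by
  intro hr
  have hexp : ∀ s : S, s * s = 1 := fun s => Subtype.ext (exp_two h hN D hSN i s.2)
  have hcom : IsMulCommutative (⊤ : Subgroup S) := by
    refine ⟨⟨fun a b => Subtype.ext ?_⟩⟩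
    have h1 := hexp a
    have h2 := hexp b
    have h3 := hexp (a * b)
    calc (a : S) * b = a * 1 * b := by rw [mul_one]
      _ = a * ((a : S) * b * (a * b)) * b := by rw [h3]
      _ = (a * a) * b * a * (b * b) := by group
      _ = b * a := by rw [h1, h2]; simp
  have h1 := hr ⊤ hcom (fun a _ => by rw [pow_two, hexp])
  rw [card_top, pow_one] at h1
  obtain ⟨x, ⟨⟨s, hs, hsx⟩, -⟩, y, ⟨⟨t, ht, hty⟩, -⟩, hxy, hx1, -, hy1, -⟩ := D.exists_two i
  have h2 : ({1, ⟨s, hs⟩, ⟨t, ht⟩} : Set S).ncard = 3 := by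
    rw [Set.ncard_insert_of_notMem, Set.ncard_pair]
    · intro h3
      apply hxy
      rw [← hsx, ← hty, show s = t from congrArg Subtype.val h3]
    · rintro (h3 | h3)
      · apply hx1
        rw [← hsx, show s = 1 from (congrArg Subtype.val h3).symm, map_one]
      · apply hy1
        rw [← hty, show t = 1 from (congrArg Subtype.val h3).symm, map_one]
  have h3 := Set.ncard_le_card ({1, ⟨s, hs⟩, ⟨t, ht⟩} : Set S)
  omega

end main

end Cfsg.Agent.H331.SCMain
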