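import Mathlib
import Cfsg.Agent.H331.SCMain

/-!
# Strongly closed 2-subgroups: the choice of the normal subgroup
-/

set_option autoImplicit false

namespace Cfsg.Agent.H331.SCQuot

open Cfsg Subgroup

universe u

variable {G : Type u} [Group G] [Finite G]

theorem le_of_odd {A B : Subgroup G} (hB : IsPGroup 2 B) (hAB : A ≤ B) {C : Subgroup G} (hBC : B ≤ C)
    (hodd : Odd (A.relIndex C)) : B ≤ A := by
  have : Fact (Nat.Prime 2) := ⟨Nat.prime_two⟩
  have h1 : A.relIndex B ∣ A.relIndex C := Dvd.intro _ (relIndex_mul_relIndex A B C hAB hBC)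
  have h2 : Odd (A.relIndex B) := hodd.of_dvd_nat h1
  obtain ⟨n, hn⟩ := hB.index (A.subgroupOf B)
  have h3 : A.relIndex B = 2 ^ n := hn
  rw [h3] at h2
  have h4 : n = 0 := by
    by_contra hne
    exact Nat.not_even_iff_odd.2 h2 (Nat.even_pow.2 ⟨even_two, hne⟩)
  rw [h4, pow_zero] at h3
  exact relIndex_eq_one.1 h3

/-- There is a maximal normal subgroup `N` with `T ∩ N ≤ S`. -/
theorem exists_max (T S : Subgroup G) : ∃ N : Subgroup G, N.Normal ∧ T ⊓ N ≤ S ∧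
    ∀ M : Subgroup G, M.Normal → N ≤ M → T ⊓ M ≤ S → M ≤ N := by
  have hfin : Finite (Subgroup G) := inferInstance
  obtain ⟨N, hN⟩ := Set.Finite.exists_maximal (s := {N : Subgroup G | N.Normal ∧ T ⊓ N ≤ S}) (Set.toFinite _)
    ⟨⊥, normal_bot, by simp⟩
  exact ⟨N, hN.prop.1, hN.prop.2, fun M hM hNM hTM => hN.le_of_ge ⟨hM, hTM⟩ hNM⟩

theorem even_of_max {T : Sylow 2 G} {S N : Subgroup G} [hNn : N.Normal] (hST : S ≤ T) (hN : (T : Subgroup G) ⊓ N ≤ S)
    (hmax : ∀ M : Subgroup G, M.Normal → N ≤ M → (T : Subgroup G) ⊓ M ≤ S → M ≤ N) (M : Subgroup (G ⧸ N))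
    (hM : M.Normal) (hMb : M ≠ ⊥) : Even ((S.map (QuotientGroup.mk' N) ⊓ M).relIndex M) := by
  have : Fact (Nat.Prime 2) := ⟨Nat.prime_two⟩
  by_contra hcon
  rw [Nat.not_even_iff_odd] at hcon
  apply hMb
  have hP : IsPGroup 2 ((T : Subgroup G).map (QuotientGroup.mk' N) ⊓ M : Subgroup (G ⧸ N)) :=
    (T.2.map _).to_le inf_le_left
  have h1 := le_of_odd hP (inf_le_inf_right M (map_mono hST)) inf_le_right hcon
  have h2 := hmax (M.comap (QuotientGroup.mk' N)) (hM.comap _) ?_ ?_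
  · rw [eq_bot_iff]
    intro x hx
    obtain ⟨x, rfl⟩ := QuotientGroup.mk'_surjective N x
    exact mem_bot.2 ((QuotientGroup.eq_one_iff x).2 (h2 hx))
  · intro x hx
    rw [mem_comap]
    have h3 : QuotientGroup.mk' N x = 1 := (QuotientGroup.eq_one_iff x).2 hx
    rw [h3]; exact one_mem _
  · rintro t ⟨ht, htM⟩
    obtain ⟨s, hs, hst⟩ := (h1 ⟨⟨t, ht, rfl⟩, htM⟩).1
    have h3 : s⁻¹ * t ∈ N := QuotientGroup.eq.1 hst
    have h4 : s⁻¹ * t ∈ S := hN ⟨(T : Subgroup G).mul_mem ((T : Subgroup G).inv_mem (hST hs)) ht, h3⟩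
    have h5 := S.mul_mem hs h4
    rwa [mul_inv_cancel_left] at h5

end Cfsg.Agent.H331.SCQuot
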